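import Groth.Agent.RefK0.Euler
import Groth.Agent.RefDiv.Inv

/-!
# Reflexive powers of a product with an invertible module
-/

set_option autoImplicit false
set_option linter.unusedSectionVars false
set_option linter.style.haveILetI false
set_option backward.isDefEq.respectTransparency false
set_option backward.isDefEq.respectTransparency.types false

universe u

open CategoryTheory CategoryTheory.Limits AlgebraicGeometry
open Groth.Agent.K0Dev (St)

noncomputable section

namespace Groth.Agent.RefK0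

variable {X : Scheme.{u}} [IsLocallyNoetherian X]

section Ops

variable {δ : X → ℤ} {n : ℤ}

theorem tw_congr {A B : X.Modules} (hA : PicF.IsInvertible A) (hB : PicF.IsInvertible B) (e : A ≅ B)
    (c : KZero.K0sub (Cyc.CohLe δ n)) : tw hA c = tw hB c := by
  refine DFunLike.congr_fun (hom_ext_cl (φ := tw hA) (ψ := tw hB) fun F hF => ?_) c
  rw [tw_cl hA hF, tw_cl hB hF]
  exact cl_iso (PicGrp.tensorModIso (Iso.refl F) e)

theorem tw_comm {A B : X.Modules} (hA : PicF.IsInvertible A) (hB : PicF.IsInvertible B)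
    (c : KZero.K0sub (Cyc.CohLe δ n)) : tw hA (tw hB c) = tw hB (tw hA c) := by
  rw [← tw_tensor hA hB (TMul.isInvertible_tensorMod hA hB), ← tw_tensor hB hA (TMul.isInvertible_tensorMod hB hA)]
  exact tw_congr _ _ (TMul.commIso A B) c

theorem tw_structureModule (h : PicF.IsInvertible (Coh.structureModule X)) (c : KZero.K0sub (Cyc.CohLe δ n)) :
    tw h c = c := by
  refine DFunLike.congr_fun (hom_ext_cl (φ := tw h) (ψ := AddMonoidHom.id _) fun F hF => ?_) c
  rw [tw_cl h hF, AddMonoidHom.id_apply]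
  exact cl_iso (TMul.commIso _ _ ≪≫ TMul.leftUnitIso F)

theorem tw_twl {ι : Type*} {M : ι → X.Modules} (hM : ∀ i, PicF.IsInvertible (M i)) {A : X.Modules}
    (hA : PicF.IsInvertible A) (c : KZero.K0sub (Cyc.CohLe δ n)) :
    ∀ l : List ι, tw hA (twl hM l c) = twl hM l (tw hA c)
  | [] => rfl
  | a :: l => by
    show tw hA (tw (hM a) (twl hM l c)) = tw (hM a) (twl hM l (tw hA c))
    rw [tw_comm, tw_twl hM hA c l]

theorem dd_alt {ι : Type*} [LinearOrder ι] {M : ι → X.Modules} (hM : ∀ i, PicF.IsInvertible (M i)) {A : X.Modules}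
    (hA : PicF.IsInvertible A) (s : Finset ι) (c : KZero.K0sub (Cyc.CohLe δ n)) :
    dd hA (alt hM s c) = alt hM s (dd hA c) := by
  rw [dd_apply, dd_apply, alt_sub]
  congr 1
  simp only [alt, map_sum, map_zsmul, tw_twl]

/-- The twist difference of an inverse. -/
theorem dd_inverse {A A' : X.Modules} (hA : PicF.IsInvertible A) (hA' : PicF.IsInvertible A')
    (e : CohB1.tensorMod A' A ≅ Coh.structureModule X) (c : KZero.K0sub (Cyc.CohLe δ n)) :
    dd hA' c = - dd hA c - dd hA' (dd hA c) := by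
  have h : tw hA' (tw hA c) = c := by
    rw [← tw_tensor hA' hA (TMul.isInvertible_tensorMod hA' hA), tw_congr _ TMul.isInvertible_structureModule e,
      tw_structureModule]
  rw [dd_apply, dd_apply, dd_apply, map_sub, h]
  abel

/-- Iterated twists to first order. -/
theorem iter_tw_first (hX : Cyc.IsSetup X δ) {A : X.Modules} (hA : PicF.IsInvertible A)
    {c : KZero.K0sub (Cyc.CohLe δ n)} {a : ℤ} (ha : a ≤ n) (hc : c ∈ Fil δ n a) :
    ∀ m : ℕ, (tw hA)^[m] c - c - (m : ℤ) • dd hA c ∈ Fil δ n (a - 2)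
  | 0 => by
    rw [Function.iterate_zero_apply, sub_self, Nat.cast_zero, zero_smul, sub_self]
    exact zero_mem _
  | m + 1 => by
    have ih := iter_tw_first hX hA ha hc m
    have h1 := dd_mem hA hX (by omega) ih
    have hmono : Fil δ n (a - 2 - 1) ≤ Fil δ n (a - 2) := by
      refine AddSubgroup.closure_mono ?_
      rintro _ ⟨F, hF, rfl⟩
      exact ⟨F, ⟨hF.1, fun x hx => (hF.2 x hx).trans (by omega)⟩, rfl⟩
    have h2 := dd_mem hA hX (by omega) (dd_mem hA hX ha hc)
    rw [show a - 1 - 1 = a - 2 by ring] at h2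
    have h3 : tw hA ((tw hA)^[m] c) - c - ((m + 1 : ℕ) : ℤ) • dd hA c =
        ((tw hA)^[m] c - c - (m : ℤ) • dd hA c) + dd hA ((tw hA)^[m] c - c - (m : ℤ) • dd hA c) +
          (m : ℤ) • dd hA (dd hA c) := by
      have e : ∀ y : KZero.K0sub (Cyc.CohLe δ n), tw hA y = y + dd hA y := fun y => by rw [dd_apply]; abel
      rw [e ((tw hA)^[m] c), map_sub (dd hA), map_sub (dd hA), map_zsmul, Nat.cast_succ, add_smul, one_smul]
      abel
    rw [Function.iterate_succ_apply', h3]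
    exact add_mem (add_mem ih (hmono h1)) (zsmul_mem h2 _)

end Ops

variable [IsIntegral X]

theorem exists_hasDiv {M : X.Modules} (h : RefDiv.Lat M) : ∃ D, RefDiv.HasDiv M D :=
  h.gen.elim fun s hs => ⟨fun x => RefDiv.dv M x s, s, hs.1, fun _ _ => rfl⟩

variable (hnorm : Pi1.IsNormalScheme X)
include hnorm

theorem hasDiv_refTensor {F G : X.Modules} (hF : RefHull.IsRef1 F) (hG : RefHull.IsRef1 G) {D E : X → ℤ}
    (hD : RefDiv.HasDiv F D) (hE : RefDiv.HasDiv G E) : RefDiv.HasDiv (RefPow.refTensor F G) (fun x => D x + E x) := by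
  obtain ⟨s, hs, hsD⟩ := hD
  obtain ⟨t, ht, htE⟩ := hE
  obtain ⟨w, hw, hwD⟩ := RefDiv.hasDiv_tensor hnorm (RefDiv.lat_of_isRef1 hF) (RefDiv.lat_of_isRef1 hG) hs ht
  exact ⟨w, hw, fun x hx => by rw [hwD x hx, hsD x hx, htE x hx]⟩

theorem hasDiv_refPow {F : X.Modules} (hF : RefHull.IsRef1 F) {D : X → ℤ} (hD : RefDiv.HasDiv F D) : ∀ m : ℕ,
    RefHull.IsRef1 (RefPow.refPow F m) ∧ RefDiv.HasDiv (RefPow.refPow F m) (fun x => (m : ℤ) * D x)
  | 0 => ⟨RefDiv.isRef1_structureModule, by simpa using RefDiv.hasDiv_structureModule hnorm⟩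
  | 1 => ⟨hF, by simpa using hD⟩
  | m + 2 => by
    obtain ⟨h1, h2⟩ := hasDiv_refPow hF hD (m + 1)
    refine ⟨RefDiv.isRef1_tensor (RefDiv.lat_of_isRef1 h1) (RefDiv.lat_of_isRef1 hF), ?_⟩
    show RefDiv.HasDiv (RefPow.refTensor (RefPow.refPow F (m + 1)) F) _
    convert hasDiv_refTensor hnorm h1 hF h2 hD using 1
    funext x
    push_cast
    ring

theorem nonempty_refPow_refTensor {F G : X.Modules} (hF : RefHull.IsRef1 F) (hG : RefHull.IsRef1 G) (m : ℕ) :
    Nonempty (RefPow.refPow (RefPow.refTensor F G) m ≅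
      RefPow.refTensor (RefPow.refPow F m) (RefPow.refPow G m)) := by
  obtain ⟨D, hD⟩ := exists_hasDiv (RefDiv.lat_of_isRef1 hF)
  obtain ⟨E, hE⟩ := exists_hasDiv (RefDiv.lat_of_isRef1 hG)
  obtain ⟨a1, a2⟩ := hasDiv_refPow hnorm
    (RefDiv.isRef1_tensor (RefDiv.lat_of_isRef1 hF) (RefDiv.lat_of_isRef1 hG)) (hasDiv_refTensor hnorm hF hG hD hE) m
  obtain ⟨b1, b2⟩ := hasDiv_refPow hnorm hF hD m
  obtain ⟨c1, c2⟩ := hasDiv_refPow hnorm hG hE m
  refine RefDiv.nonempty_iso hnorm a1 (RefDiv.isRef1_tensor (RefDiv.lat_of_isRef1 b1) (RefDiv.lat_of_isRef1 c1)) a2 ?_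
  convert hasDiv_refTensor hnorm b1 c1 b2 c2 using 1
  funext x
  ring

theorem nonempty_refTensor_dual {F : X.Modules} (hF : RefHull.IsRef1 F) :
    Nonempty (RefPow.refTensor F (RefHull.dual F) ≅ Coh.structureModule X) := by
  have hL := RefDiv.lat_of_isRef1 hF
  obtain ⟨D, hD⟩ := exists_hasDiv hL
  have h := hasDiv_refTensor hnorm hF (RefDiv.isRef1_dual hL) hD (RefDiv.hasDiv_dual hnorm hL hD)
  refine RefDiv.nonempty_iso hnorm (RefDiv.isRef1_tensor hL (RefDiv.lat_dual hL)) RefDiv.isRef1_structureModule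
    (D := fun _ => 0) ?_ (RefDiv.hasDiv_structureModule hnorm)
  convert h using 1
  funext x
  ring

omit hnorm in
theorem nonempty_refTensor_inv {F L : X.Modules} (hF : RefHull.IsRef1 F) (hL : PicF.IsInvertible L) :
    Nonempty (RefPow.refTensor F L ≅ CohB1.tensorMod F L) := by
  have hc : Coh.IsCoh (CohB1.tensorMod F L) := RefDiv.isCoh_tensor hF.1 (RefDiv.lat_of_isInvertible hL).coh
  haveI : IsIso (RefHull.bidualMap (CohB1.tensorMod F L)) := (RefStalk.isReflexive_iff hc).2 fun x => by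
    obtain ⟨A, e, hxA, he⟩ := TMul.exists_isGen hL x
    haveI : Module.IsReflexive (X.presheaf.stalk x) (F.presheaf.stalk x) := (RefStalk.isReflexive_iff hF.1).1 hF.2.1 x
    exact Module.IsReflexive.of_split (CycK0.theta he hxA F).symm.toLinearMap
      (CycK0.theta he hxA F).toLinearMap (LinearMap.ext (CycK0.theta he hxA F).apply_symm_apply)
  exact ⟨(asIso (RefHull.bidualMap (CohB1.tensorMod F L))).symm⟩

omit hnorm in
theorem refPow_inv {L : X.Modules} (hL : PicF.IsInvertible L) : ∀ m : ℕ,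
    PicF.IsInvertible (RefPow.refPow L m) ∧
      Nonempty (RefPow.refPow L (m + 1) ≅ CohB1.tensorMod (RefPow.refPow L m) L)
  | 0 => ⟨TMul.isInvertible_structureModule, ⟨(TMul.leftUnitIso L).symm⟩⟩
  | m + 1 => by
    obtain ⟨h1, ⟨e⟩⟩ := refPow_inv hL m
    have h2 : PicF.IsInvertible (RefPow.refPow L (m + 1)) :=
      Groth.Agent.ParaFLib.isInvertible_of_iso e.symm (TMul.isInvertible_tensorMod h1 hL)
    exact ⟨h2, nonempty_refTensor_inv (RefDiv.isRef1_of_isInvertible h2) hL⟩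

theorem cl_refPow_refTensor_inv {δ : X → ℤ} {n : ℤ} (htop : ∀ F : X.Modules, Coh.IsCoh F → Cyc.CohLe δ n F)
    {F L : X.Modules} (hF : RefHull.IsRef1 F) (hL : PicF.IsInvertible L) (m : ℕ) :
    KZero.clSub (Cyc.CohLe δ n) (RefPow.refPow (RefPow.refTensor F L) m) =
        (tw hL)^[m] (KZero.clSub (Cyc.CohLe δ n) (RefPow.refPow F m)) ∧
      KZero.clSub (Cyc.CohLe δ n) (RefPow.refPow L m) =
        (tw hL)^[m] (KZero.clSub (Cyc.CohLe δ n) (Coh.structureModule X)) := by
  have key : ∀ G : X.Modules, Coh.IsCoh G → ∀ j, (tw hL)^[j] (KZero.clSub (Cyc.CohLe δ n) G) =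
      KZero.clSub (Cyc.CohLe δ n) (CohB1.tensorMod G (RefPow.refPow L j)) := by
    intro G hG j
    induction j with
    | zero => exact cl_iso (TMul.commIso _ _ ≪≫ TMul.leftUnitIso G).symm
    | succ j ih =>
      obtain ⟨h1, ⟨e⟩⟩ := refPow_inv hL j
      rw [Function.iterate_succ_apply', ih,
        tw_cl hL (htop _ (RefDiv.isCoh_tensor hG (RefDiv.lat_of_isInvertible h1).coh))]
      exact cl_iso (TMul.assocIso _ _ _ ≪≫ PicGrp.tensorModIso (Iso.refl G) e.symm)
  obtain ⟨D, hD⟩ := exists_hasDiv (RefDiv.lat_of_isRef1 hF)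
  have hFm := (hasDiv_refPow hnorm hF hD m).1
  refine ⟨?_, ?_⟩
  · obtain ⟨e⟩ := nonempty_refPow_refTensor hnorm hF (RefDiv.isRef1_of_isInvertible hL) m
    obtain ⟨e'⟩ := nonempty_refTensor_inv hFm (refPow_inv hL m).1
    rw [key _ hFm.1]
    exact cl_iso (e ≪≫ e')
  · rw [key _ RefStalk.isCoh_structureModule]
    exact cl_iso (TMul.leftUnitIso _).symm

end Groth.Agent.RefK0

namespace Groth.Agent.RefK0

theorem alt_neg {X : Scheme.{u}} [IsLocallyNoetherian X] {δ : X → ℤ} {n : ℤ} {ι : Type*} [LinearOrder ι]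
    {M : ι → X.Modules} (hM : ∀ i, PicF.IsInvertible (M i)) (s : Finset ι) (c : KZero.K0sub (Cyc.CohLe δ n)) :
    alt hM s (-c) = -alt hM s c := by
  simp only [alt, map_neg, smul_neg, Finset.sum_neg_distrib]

end Groth.Agent.RefK0
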