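import Groth.Agent.RefK0.Filt
import Groth.Agent.RefDiv.Ops
import Groth.Agent.CycDim.Basic
import Groth.Prelude.Def_RefPow

/-!
# Reflexive tensor products of rank one modules in the filtration of `K₀`
-/

set_option autoImplicit false
set_option linter.unusedSectionVars false
set_option linter.style.haveILetI false
set_option backward.isDefEq.respectTransparency false
set_option backward.isDefEq.respectTransparency.types false

universe u

open CategoryTheory CategoryTheory.Limits AlgebraicGeometry TopologicalSpace Opposite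
open Groth.Agent.K0Dev (St)
open Groth.Agent.CycK0 (twist)
open TMul (IsGen)

noncomputable section

attribute [local instance] Abelian.hasFiniteBiproducts

namespace Groth.Agent.RefK0

variable {X : Scheme.{u}} [IsLocallyNoetherian X] {δ : X → ℤ} {n b : ℤ}

lemma small_of_high {F : X.Modules} (hF : Cyc.CohLe δ n F) (h : ∀ x, b < δ x → IsZero ((St x).obj F)) :
    Cyc.CohLe δ b F := (CycK0.cohLe_iff δ b).2 ⟨hF.1, h⟩

/-- A map which is bijective in dimensions above `b` preserves the class modulo dimension `b`. -/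
theorem q_eq_of_high {A B : X.Modules} (φ : A ⟶ B) (hA : Cyc.CohLe δ n A) (hB : Cyc.CohLe δ n B)
    (h : ∀ x, b < δ x → IsIso ((St x).map φ)) :
    Cyc.toK0CohQuot δ n b A = Cyc.toK0CohQuot δ n b B := by
  have hK := CycK0.cohLe_kernel φ hA hB.1.1
  have hC := CycK0.cohLe_cokernel φ hA.1.1 hB
  have hI : Cyc.CohLe δ n (Abelian.image φ) := CycK0.cohLe_kernel _ hB hC.1.1
  let S₁ := ShortComplex.mk (kernel.ι φ) (Abelian.factorThruImage φ)
    ((cancel_mono (Abelian.image.ι φ)).1 (by rw [Category.assoc, Abelian.image.fac, kernel.condition, zero_comp]))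
  have e₁ : S₁.ShortExact :=
    { exact := ShortComplex.exact_of_f_is_kernel _ (KernelFork.IsLimit.ofι' _ _ fun k hk =>
        ⟨kernel.lift φ k (by rw [← Abelian.image.fac φ, ← Category.assoc, hk, zero_comp]), kernel.lift_ι _ _ _⟩) }
  let S₂ := ShortComplex.mk (Abelian.image.ι φ) (cokernel.π φ) (kernel.condition _)
  have e₂ : S₂.ShortExact :=
    { exact := ShortComplex.exact_of_f_is_kernel _ (kernelIsKernel _) }
  have hKs : Cyc.CohLe δ b (kernel φ) := small_of_high hK fun x hx => by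
    haveI := h x hx
    exact IsZero.of_mono_eq_zero ((St x).map (kernel.ι φ)) ((cancel_mono ((St x).map φ)).1
      (by rw [← Functor.map_comp, kernel.condition, Functor.map_zero, zero_comp]))
  have hCs : Cyc.CohLe δ b (cokernel φ) := small_of_high hC fun x hx => by
    haveI := h x hx
    exact IsZero.of_epi_eq_zero ((St x).map (cokernel.π φ)) ((cancel_epi ((St x).map φ)).1
      (by rw [← Functor.map_comp, cokernel.condition, Functor.map_zero, comp_zero]))
  rw [show Cyc.toK0CohQuot δ n b A = _ from CycK0.q_add e₁ hK hA hI b,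
    show Cyc.toK0CohQuot δ n b B = _ from CycK0.q_add e₂ hI hB hC b, CycK0.q_small hKs, CycK0.q_small hCs,
    zero_add, add_zero]

/-- A complex which is short exact in dimensions above `b` is additive modulo dimension `b`. -/
theorem q_add_high (S : ShortComplex X.Modules) (h₁ : Cyc.CohLe δ n S.X₁) (h₂ : Cyc.CohLe δ n S.X₂)
    (h₃ : Cyc.CohLe δ n S.X₃) (h : ∀ x, b < δ x → (S.map (St x)).ShortExact) :
    Cyc.toK0CohQuot δ n b S.X₂ = Cyc.toK0CohQuot δ n b S.X₁ + Cyc.toK0CohQuot δ n b S.X₃ := by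
  have hK := CycK0.cohLe_kernel S.g h₂ h₃.1.1
  have hQ := CycK0.cohLe_cokernel (kernel.ι S.g) hK.1.1 h₂
  let S' := ShortComplex.mk (kernel.ι S.g) (cokernel.π (kernel.ι S.g)) (cokernel.condition _)
  have e : S'.ShortExact :=
    { exact := ShortComplex.exact_of_g_is_cokernel _ (cokernelIsCokernel _) }
  have k₁ : Cyc.toK0CohQuot δ n b S.X₁ = Cyc.toK0CohQuot δ n b (kernel S.g) :=
    q_eq_of_high (kernel.lift S.g S.f S.zero) h₁ hK fun x hx => by
      have hS := h x hx
      haveI : Mono ((St x).map S.f) := hS.mono_f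
      haveI : Mono (S.map (St x)).f := hS.mono_f
      have h0 : (St x).map (kernel.ι S.g) ≫ (S.map (St x)).g = 0 := by
        show (St x).map (kernel.ι S.g) ≫ (St x).map S.g = 0
        rw [← Functor.map_comp, kernel.condition, Functor.map_zero]
      let l : (St x).obj (kernel S.g) ⟶ (St x).obj S.X₁ := hS.exact.lift _ h0
      have hl : l ≫ (St x).map S.f = (St x).map (kernel.ι S.g) := hS.exact.lift_f _ h0
      haveI : Mono ((St x).map (kernel.ι S.g)) := inferInstance
      have hf : (St x).map (kernel.lift S.g S.f S.zero) ≫ (St x).map (kernel.ι S.g) = (St x).map S.f := by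
        rw [← Functor.map_comp, kernel.lift_ι]
      exact ⟨l, (cancel_mono ((St x).map S.f)).1 (by rw [Category.assoc, hl, hf, Category.id_comp]),
        (cancel_mono ((St x).map (kernel.ι S.g))).1 (by rw [Category.assoc, hf, hl, Category.id_comp])⟩
  have k₃ : Cyc.toK0CohQuot δ n b (cokernel (kernel.ι S.g)) = Cyc.toK0CohQuot δ n b S.X₃ :=
    q_eq_of_high (cokernel.desc (kernel.ι S.g) S.g (kernel.condition _)) hQ h₃ fun x hx => by
      have hS := h x hx
      haveI : Epi ((St x).map S.g) := hS.epi_g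
      haveI : Epi (S.map (St x)).g := hS.epi_g
      have h0 : (S.map (St x)).f ≫ (St x).map (cokernel.π (kernel.ι S.g)) = 0 := by
        show (St x).map S.f ≫ (St x).map _ = 0
        rw [← Functor.map_comp, show S.f = kernel.lift S.g S.f S.zero ≫ kernel.ι S.g from
          (kernel.lift_ι _ _ _).symm, Category.assoc, cokernel.condition, comp_zero, Functor.map_zero]
      let d : (St x).obj S.X₃ ⟶ (St x).obj (cokernel (kernel.ι S.g)) := hS.exact.desc _ h0
      have hd : (St x).map S.g ≫ d = (St x).map (cokernel.π (kernel.ι S.g)) := hS.exact.g_desc _ h0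
      haveI : Epi ((St x).map (cokernel.π (kernel.ι S.g))) := inferInstance
      have hg : (St x).map (cokernel.π (kernel.ι S.g)) ≫
          (St x).map (cokernel.desc (kernel.ι S.g) S.g (kernel.condition _)) = (St x).map S.g := by
        rw [← Functor.map_comp, cokernel.π_desc]
      exact ⟨d, (cancel_epi ((St x).map (cokernel.π (kernel.ι S.g)))).1
          (by rw [← Category.assoc, hg, hd, Category.comp_id]),
        (cancel_epi ((St x).map S.g)).1 (by rw [← Category.assoc, hd, hg, Category.comp_id])⟩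
  rw [k₁, ← k₃]
  exact CycK0.q_add e hK h₂ hQ b

section AlmostTwist

variable {L : X.Modules} (hLc : Coh.IsCoh L)
  (hL : ∀ x, b < δ x → ∃ (A : X.Opens) (e : Γ(L, A)), x ∈ A ∧ IsGen e)

include hLc in
lemma cohLe_almostTwist {m : ℤ} {F : X.Modules} (hF : Cyc.CohLe δ m F) : Cyc.CohLe δ m ((twist L).obj F) := by
  haveI : Coh.IsQCoh F := hF.1.1
  haveI : Coh.IsQCoh L := hLc.1
  refine (CycK0.cohLe_iff δ m).2 ⟨⟨(S2297.result F L).1, (S2297.result F L).2 hF.1.2 hLc.2⟩, fun x hx => ?_⟩
  haveI h0 : Subsingleton ((St x).obj F) := ModuleCat.subsingleton_of_isZero (((CycK0.cohLe_iff δ m).1 hF).2 x hx)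
  haveI : Subsingleton (TensorProduct (X.presheaf.stalk x) ((St x).obj F) ((St x).obj L)) := inferInstance
  haveI : Subsingleton ((St x).obj ((twist L).obj F)) :=
    ⟨fun a c => (KFlat.stTensorIso F L x).toLinearEquiv.symm.injective
      ((show ∀ p q : TensorProduct (X.presheaf.stalk x) ((St x).obj F) ((St x).obj L), p = q from Subsingleton.elim) _ _)⟩
  exact ModuleCat.isZero_of_subsingleton _

include hLc hL in
lemma q_almostTwist_add {S : ShortComplex X.Modules} (hS : S.ShortExact)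
    (h₁ : Cyc.CohLe δ n S.X₁) (h₂ : Cyc.CohLe δ n S.X₂) (h₃ : Cyc.CohLe δ n S.X₃) :
    Cyc.toK0CohQuot δ n b ((twist L).obj S.X₂) =
      Cyc.toK0CohQuot δ n b ((twist L).obj S.X₁) + Cyc.toK0CohQuot δ n b ((twist L).obj S.X₃) := by
  have z : (twist L).map S.f ≫ (twist L).map S.g = 0 := by
    rw [← Functor.map_comp, S.zero, Functor.map_zero]
  have a₁ := cohLe_almostTwist hLc h₁
  have a₂ := cohLe_almostTwist hLc h₂
  have a₃ := cohLe_almostTwist hLc h₃
  let T := ShortComplex.mk ((twist L).map S.f) ((twist L).map S.g) z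
  have hT : ∀ x, b < δ x → (T.map (St x)).ShortExact := fun x hx => by
    obtain ⟨A, e, hxA, he⟩ := hL x hx
    exact ShortComplex.shortExact_of_iso (S.mapNatIso (CycK0.twistStIso he hxA)).symm (hS.map_of_exact (St x))
  exact q_add_high T a₁ a₂ a₃ hT

include hLc hL in
/-- The twist difference by a module invertible in dimensions above `b` kills classes of dimension `≤ b + 1`. -/
theorem almostTwist_diff (hX : Cyc.IsSetup X δ) (hb : b + 1 ≤ n) {F G : X.Modules}
    (hF : Cyc.CohLe δ n F) (hG : Cyc.CohLe δ n G)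
    (h : Cyc.toK0CohQuot δ n (b + 1) F = Cyc.toK0CohQuot δ n (b + 1) G) :
    Cyc.toK0CohQuot δ n b ((twist L).obj F) - Cyc.toK0CohQuot δ n b F =
      Cyc.toK0CohQuot δ n b ((twist L).obj G) - Cyc.toK0CohQuot δ n b G := by
  let g₀ : FreeAbelianGroup (Subtype (Cyc.CohLe δ n)) →+ Cyc.K0CohQuot δ n b :=
    FreeAbelianGroup.lift fun G : Subtype (Cyc.CohLe δ n) =>
      Cyc.toK0CohQuot δ n b ((twist L).obj G.1) - Cyc.toK0CohQuot δ n b G.1
  let g : KZero.K0sub (Cyc.CohLe δ n) →+ Cyc.K0CohQuot δ n b := QuotientAddGroup.lift _ g₀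
    ((AddSubgroup.closure_le _).2 (by
      rintro _ ⟨S, h₁, h₂, h₃, hS, rfl⟩
      simp only [SetLike.mem_coe, AddMonoidHom.mem_ker, map_sub, g₀, FreeAbelianGroup.lift_apply_of]
      rw [q_almostTwist_add hLc hL hS h₁ h₂ h₃, CycK0.q_add hS h₁ h₂ h₃ b]
      abel))
  have hg : ∀ G, Cyc.CohLe δ n G → g (KZero.clSub (Cyc.CohLe δ n) G) =
      Cyc.toK0CohQuot δ n b ((twist L).obj G) - Cyc.toK0CohQuot δ n b G := fun G hG => by
    rw [KZero.clSub, dif_pos hG]
    exact FreeAbelianGroup.lift_apply_of _ _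
  have hker : Fil δ n (b + 1) ≤ g.ker := by
    refine (AddSubgroup.closure_le _).2 ?_
    rintro _ ⟨K, hK, rfl⟩
    have hKn : Cyc.CohLe δ n K := ⟨hK.1, fun x hx => (hK.2 x hx).trans hb⟩
    rw [SetLike.mem_coe, AddMonoidHom.mem_ker, hg K hKn, sub_eq_zero]
    obtain ⟨ψ, hψ, hinj, -⟩ := CycK0.exists_psi (k := b + 1) hX
    have hT := cohLe_almostTwist hLc hK
    have heq : Cyc.toK0CohQuot δ (b + 1) (b + 1 - 1) ((twist L).obj K) = Cyc.toK0CohQuot δ (b + 1) (b + 1 - 1) K := by
      refine hinj ?_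
      rw [hψ ((twist L).obj K) hT, hψ K hK]
      funext x
      unfold Cyc.sheafFun
      split
      · next hx =>
        obtain ⟨A, e, hxA, he⟩ := hL x (by omega)
        exact congrArg (fun n : ℕ∞ => ((n.toNat : ℕ) : ℤ))
          ((CycK0.twistStIso he hxA).app K).toLinearEquiv.length_eq
      · rfl
    have up : ∀ {G : X.Modules}, Cyc.CohLe δ (b + 1) G → Cyc.CohLe δ n G :=
      fun hG => ⟨hG.1, fun x hx => (hG.2 x hx).trans hb⟩
    let r₀ : KZero.K0sub (Cyc.CohLe δ (b + 1)) →+ Cyc.K0CohQuot δ n b := QuotientAddGroup.lift _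
      (FreeAbelianGroup.lift fun G : Subtype (Cyc.CohLe δ (b + 1)) => Cyc.toK0CohQuot δ n b G.1)
      ((AddSubgroup.closure_le _).2 (by
        rintro _ ⟨S, h₁, h₂, h₃, hS, rfl⟩
        rw [SetLike.mem_coe, AddMonoidHom.mem_ker, map_sub, map_sub, FreeAbelianGroup.lift_apply_of,
          FreeAbelianGroup.lift_apply_of, FreeAbelianGroup.lift_apply_of,
          CycK0.q_add hS (up h₁) (up h₂) (up h₃) b]
        abel))
    have hr₀ : ∀ G, Cyc.CohLe δ (b + 1) G →
        r₀ (KZero.clSub (Cyc.CohLe δ (b + 1)) G) = Cyc.toK0CohQuot δ n b G := fun G hG => by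
      rw [KZero.clSub, dif_pos hG]
      exact FreeAbelianGroup.lift_apply_of _ _
    let r : Cyc.K0CohQuot δ (b + 1) (b + 1 - 1) →+ Cyc.K0CohQuot δ n b := QuotientAddGroup.lift _ r₀
      ((AddSubgroup.closure_le _).2 (by
        rintro _ ⟨G, hG, rfl⟩
        rw [SetLike.mem_coe, AddMonoidHom.mem_ker, hr₀ G ⟨hG.1, fun x hx => (hG.2 x hx).trans (by omega)⟩,
          CycK0.q_small ⟨hG.1, fun x hx => (hG.2 x hx).trans (by omega)⟩]))
    exact ((hr₀ _ hT).symm.trans (congrArg r heq :
      r₀ (KZero.clSub (Cyc.CohLe δ (b + 1)) ((twist L).obj K)) = r₀ (KZero.clSub (Cyc.CohLe δ (b + 1)) K))).trans (hr₀ K hK)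
  have hmem := mk_mem_fil.1 ((QuotientAddGroup.mk_sub _ _ _).trans (sub_eq_zero.2 h))
  have h' := hker hmem
  rw [AddMonoidHom.mem_ker, map_sub, hg F hF, hg G hG, sub_eq_zero] at h'
  exact h'

end AlmostTwist

variable [IsIntegral X]

theorem q_refTensor (hnorm : Pi1.IsNormalScheme X) (hX : Cyc.IsSetup X δ) (hn : δ (genericPoint X) = n)
    {F G : X.Modules} (hF : RefHull.IsRef1 F) (hG : RefHull.IsRef1 G) :
    Cyc.toK0CohQuot δ n (n - 2) (RefPow.refTensor F G) + Cyc.toK0CohQuot δ n (n - 2) (Coh.structureModule X) =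
      Cyc.toK0CohQuot δ n (n - 2) F + Cyc.toK0CohQuot δ n (n - 2) G := by
  have hδ := hX.2.2
  have hO : Coh.IsCoh (Coh.structureModule X) := RefStalk.isCoh_structureModule
  have hgen : ∀ {M : X.Modules}, RefDiv.Lat M → ∀ x, n - 2 < δ x →
      ∃ (A : X.Opens) (e : Γ(M, A)), x ∈ A ∧ IsGen e := fun {M} hM x hx => by
    by_cases hx' : δ x = n
    · obtain ⟨W, hW, e, he⟩ := hM.exists_isGen_generic
      exact ⟨W, e, eq_genericPoint hδ (hx'.trans hn.symm) ▸ hW, he⟩
    · have hc : Order.coheight x = 1 := (CycDim.coheight_eq_one_iff hδ x).2 (by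
        have := delta_le_top hδ x
        omega)
      obtain ⟨m, hm⟩ := hM.exists_span hnorm hc
      obtain ⟨A, hxA, a, -, ha⟩ := hM.exists_isGen hm
      exact ⟨A, a, hxA, ha⟩
  have hLF := RefDiv.lat_of_isRef1 hF
  have hLG := RefDiv.lat_of_isRef1 hG
  have hc := RefDiv.isCoh_tensor hF.1 hG.1
  have top : ∀ {M : X.Modules}, Coh.IsCoh M → Cyc.CohLe δ n M := fun h => cohLe_top hδ hn h
  have h1 : Cyc.toK0CohQuot δ n (n - 2) (CohB1.tensorMod F G) =
      Cyc.toK0CohQuot δ n (n - 2) (RefPow.refTensor F G) := by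
    refine q_eq_of_high (RefHull.bidualMap (CohB1.tensorMod F G)) (top hc)
      (top (RefStalk.isCoh_homSh (RefStalk.isCoh_homSh hc hO) hO)) fun x hx => ?_
    obtain ⟨A, e, hxA, he⟩ := hgen hLF x hx
    obtain ⟨B, f, hxB, hf⟩ := hgen hLG x hx
    have hbij := RefDiv.bijective_germ_of_isGen
      (TMul.isGen_tm (he.res (inf_le_left : A ⊓ B ≤ A)) (hf.res (inf_le_right : A ⊓ B ≤ B)))
      (show x ∈ A ⊓ B from ⟨hxA, hxB⟩)
    have hb2 : Function.Bijective (LinearMap.toSpanSingleton (X.presheaf.stalk x)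
        ((CohB1.tensorMod F G).presheaf.stalk x) (Groth.Agent.WeakAssLib.mgerm (CohB1.tensorMod F G)
          (show x ∈ A ⊓ B from ⟨hxA, hxB⟩) (TMul.tm (QC.res F inf_le_left e) (QC.res G inf_le_right f)))) := hbij
    haveI : Module.Free (X.presheaf.stalk x) ((CohB1.tensorMod F G).presheaf.stalk x) :=
      Module.Free.of_equiv (LinearEquiv.ofBijective _ hb2)
    haveI : Module.Finite (X.presheaf.stalk x) ((CohB1.tensorMod F G).presheaf.stalk x) :=
      Module.Finite.equiv (LinearEquiv.ofBijective _ hb2)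
    exact (ConcreteCategory.isIso_iff_bijective _).2 (RefStalk.bijective_stalkMap_bidualMap hc x
      (show Module.IsReflexive (X.presheaf.stalk x) ((CohB1.tensorMod F G).presheaf.stalk x) from inferInstance))
  have hOF : Cyc.toK0CohQuot δ n (n - 2 + 1) F = Cyc.toK0CohQuot δ n (n - 2 + 1) (Coh.structureModule X) := by
    rw [show n - 2 + 1 = n - 1 by ring]
    exact (sub_mem_fil hX hn hO hF.1 ((nonempty_genericStalk hF.2.2).map fun e =>
      (nonempty_stalk TMul.isInvertible_structureModule _).some.symm.trans e)).symm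
  have h2 := almostTwist_diff hG.1 (hgen hLG) hX (by omega) (top hF.1) (top hO) hOF
  have h3 : Cyc.toK0CohQuot δ n (n - 2) ((twist G).obj (Coh.structureModule X)) = Cyc.toK0CohQuot δ n (n - 2) G :=
    congrArg QuotientAddGroup.mk (cl_iso (TMul.leftUnitIso G))
  have h4 : Cyc.toK0CohQuot δ n (n - 2) ((twist G).obj F) = Cyc.toK0CohQuot δ n (n - 2) (RefPow.refTensor F G) := h1
  rw [h3, h4, sub_eq_sub_iff_add_eq_add] at h2
  rw [h2, add_comm]

end Groth.Agent.RefK0
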