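import Groth.Agent.RefK0.Filt

/-!
# Consequences for the dimension filtration
-/

set_option autoImplicit false
set_option linter.unusedSectionVars false
set_option linter.style.haveILetI false
set_option backward.isDefEq.respectTransparency false
set_option backward.isDefEq.respectTransparency.types false

universe u

open CategoryTheory CategoryTheory.Limits AlgebraicGeometry

noncomputable section

namespace Groth.Agent.RefK0

variable {X : Scheme.{u}} [IsLocallyNoetherian X] {δ : X → ℤ} {n : ℤ}

theorem alt_map {ι κ : Type*} [LinearOrder ι] [LinearOrder κ] {M : κ → X.Modules}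
    (hM : ∀ i, PicF.IsInvertible (M i)) (f : ι ↪ κ) (hf : StrictMono f) (s : Finset ι)
    (c : KZero.K0sub (Cyc.CohLe δ n)) :
    alt hM (s.map f) c = alt (M := fun i => M (f i)) (fun i => hM (f i)) s c := by
  induction s using Finset.induction_on_min with
  | empty =>
    rw [Finset.map_empty, alt, alt, Finset.powerset_empty, Finset.sum_singleton, Finset.powerset_empty,
      Finset.sum_singleton, Finset.sort_empty, Finset.sort_empty]
    rfl
  | @insert a s h ih =>
    rw [Finset.map_insert, alt_insert hM (fun x hx => by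
        obtain ⟨y, hy, rfl⟩ := Finset.mem_map.1 hx
        exact hf (h y hy)), alt_insert _ h, ih]

theorem alt_cons {k : ℕ} {M : Fin k → X.Modules} (hM : ∀ i, PicF.IsInvertible (M i)) {P : X.Modules}
    (hP : PicF.IsInvertible P) (hMP : ∀ i, PicF.IsInvertible ((Fin.cons P M : Fin (k + 1) → X.Modules) i))
    (c : KZero.K0sub (Cyc.CohLe δ n)) :
    alt hMP Finset.univ c = - dd hP (alt hM Finset.univ c) := by
  have hu : (Finset.univ : Finset (Fin (k + 1))) = insert 0 (Finset.univ.map (Fin.succEmb k)) := by
    ext i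
    refine ⟨fun _ => ?_, fun _ => Finset.mem_univ _⟩
    cases i using Fin.cases with
    | zero => exact Finset.mem_insert_self _ _
    | succ j => exact Finset.mem_insert_of_mem (Finset.mem_map_of_mem _ (Finset.mem_univ j))
  rw [hu, alt_insert hMP (fun x hx => by
    obtain ⟨y, -, rfl⟩ := Finset.mem_map.1 hx
    exact Fin.succ_pos y), alt_map hMP (Fin.succEmb k) Fin.strictMono_succ]

theorem hom_ext_cl {G : Type*} [AddCommGroup G] {φ ψ : KZero.K0sub (Cyc.CohLe δ n) →+ G}
    (h : ∀ F, Cyc.CohLe δ n F → φ (KZero.clSub (Cyc.CohLe δ n) F) = ψ (KZero.clSub (Cyc.CohLe δ n) F)) : φ = ψ := by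
  refine QuotientAddGroup.addMonoidHom_ext _ ?_
  ext F
  have h' := h F.1 F.2
  rw [KZero.clSub, dif_pos F.2] at h'
  exact h'

theorem tw_tensor {A B : X.Modules} (hA : PicF.IsInvertible A) (hB : PicF.IsInvertible B)
    (hAB : PicF.IsInvertible (CohB1.tensorMod A B)) (c : KZero.K0sub (Cyc.CohLe δ n)) :
    tw hAB c = tw hA (tw hB c) := by
  refine DFunLike.congr_fun (hom_ext_cl (φ := tw hAB) (ψ := (tw hA).comp (tw hB)) fun F hF => ?_) c
  rw [AddMonoidHom.comp_apply, tw_cl hAB hF, tw_cl hB hF,
    tw_cl hA (F := CohB1.tensorMod F B) (CycK0.cohLe_twist hB hF)]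
  exact cl_iso ((TMul.assocIso F B A) ≪≫ PicGrp.tensorModIso (Iso.refl F) (TMul.commIso B A)).symm

theorem dd_tensor {A B : X.Modules} (hA : PicF.IsInvertible A) (hB : PicF.IsInvertible B)
    (hAB : PicF.IsInvertible (CohB1.tensorMod A B)) (c : KZero.K0sub (Cyc.CohLe δ n)) :
    dd hAB c = dd hA c + dd hB c + dd hA (dd hB c) := by
  rw [dd_apply, dd_apply, dd_apply, dd_apply, map_sub, tw_tensor hA hB]
  abel

end Groth.Agent.RefK0
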