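import Groth.Agent.RefK0.Add
import Groth.Agent.K0Coh.Basic
import Groth.Agent.CycDim.Det
import Groth.Agent.RefDiv.Order
import Groth.Agent.RefStalk.Codim
import Groth.Agent.CycK0.C1K
import Groth.Prelude.Def_TorSh

/-!
# The class of a torsion-free module is given by the divisor of a generic frame
-/

set_option autoImplicit false
set_option linter.unusedSectionVars false
set_option linter.style.haveILetI false
set_option backward.isDefEq.respectTransparency false
set_option backward.isDefEq.respectTransparency.types false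

universe u

open CategoryTheory CategoryTheory.Limits AlgebraicGeometry TopologicalSpace Opposite
open scoped ZeroObject
open Groth.Agent.K0Dev (St)
open Groth.Agent.RefStalk (msp msp_smul msp_germ toGen stalkMap_msp msp_injective)
open Groth.Agent.RefDiv (sp sp_injective sp_ne_zero)
open Groth.Agent.WeakAssLib (mgerm)

noncomputable section

attribute [local instance] Abelian.hasFiniteBiproducts

namespace Groth.Agent.RefK0

variable {X : Scheme.{u}} [IsIntegral X]

/-- The generic stalk as a vector space. -/
abbrev Gn (F : X.Modules) : Type u := F.presheaf.stalk (genericPoint X)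

section Algebra

/-- The images of a basis of a torsion-free stalk form a generic basis, and the length of a cokernel of a
frame is the order of its determinant. -/
theorem length_eq_ord [IsLocallyNoetherian X] (hn : Pi1.IsNormalScheme X) {x : X} (hx : Order.coheight x = 1)
    {r : ℕ} {N : Type u} [AddCommGroup N] [Module (X.presheaf.stalk x) N]
    [Module.IsTorsionFree (X.presheaf.stalk x) N] [Module.Finite (X.presheaf.stalk x) N]
    {V : Type u} [AddCommGroup V] [Module X.functionField V] (μ : N →+ V) (hμ : Function.Injective μ)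
    (hsmul : ∀ (a : X.presheaf.stalk x) (m : N), μ (a • m) = (sp x a) • μ m)
    (v : Fin r → N) (w : Module.Basis (Fin r) X.functionField V) (hv : ∀ i, μ (v i) = w i) :
    ∃ g : Module.Basis (Fin r) X.functionField V, (∀ i, g i ∈ Set.range μ) ∧
      (∀ m : N, ∀ i, g.repr (μ m) i ∈ Set.range (sp x)) ∧
      ((Module.length (X.presheaf.stalk x) (N ⧸ Submodule.span (X.presheaf.stalk x) (Set.range v))).toNat : ℤ) =
        Scheme.ord (g.det w) x := by
  classical
  haveI := CDivNormal.isDVR hn x hx
  letI : Algebra (X.presheaf.stalk x) X.functionField := (sp x).toAlgebra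
  haveI : IsFractionRing (X.presheaf.stalk x) X.functionField :=
    (inferInstance : IsFractionRing (X.presheaf.stalk x) X.functionField)
  letI : Module (X.presheaf.stalk x) V := Module.compHom V (sp x)
  haveI : IsScalarTower (X.presheaf.stalk x) X.functionField V := ⟨fun a c m => mul_smul (sp x a) c m⟩
  let μl : N →ₗ[X.presheaf.stalk x] V := { toFun := μ, map_add' := map_add μ, map_smul' := hsmul }
  haveI : Module.Free (X.presheaf.stalk x) N := Module.free_of_finite_type_torsion_free'
  let c := Module.Free.chooseBasis (X.presheaf.stalk x) N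
  have hli : LinearIndependent X.functionField (fun i => μ (c i)) :=
    (LinearIndependent.iff_fractionRing (X.presheaf.stalk x) X.functionField).1
      (c.linearIndependent.map' μl (LinearMap.ker_eq_bot.2 hμ))
  have hsp : ⊤ ≤ Submodule.span X.functionField (Set.range fun i => μ (c i)) := by
    rw [← w.span_eq, Submodule.span_le]
    rintro _ ⟨i, rfl⟩
    rw [← hv i, ← c.sum_repr (v i), map_sum]
    refine Submodule.sum_mem _ fun j _ => ?_
    rw [hsmul]
    exact Submodule.smul_mem _ _ (Submodule.subset_span ⟨j, rfl⟩)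
  let e := (Module.Basis.mk hli hsp).indexEquiv w
  let c' := c.reindex e
  let g := (Module.Basis.mk hli hsp).reindex e
  have hg : ∀ i, g i = μ (c' i) := fun i => by
    rw [Module.Basis.reindex_apply, Module.Basis.mk_apply, Module.Basis.reindex_apply]
  have hrepr : ∀ (m : N) i, g.repr (μ m) i = sp x (c'.repr m i) := fun m i => by
    have h : μ m = ∑ j, sp x (c'.repr m j) • g j := by
      conv_lhs => rw [← c'.sum_repr m, map_sum]
      exact Finset.sum_congr rfl fun j _ => by rw [hsmul, hg]
    rw [h, g.repr_sum_self]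
  refine ⟨g, fun i => ⟨_, (hg i).symm⟩, fun m i => ⟨_, (hrepr m i).symm⟩, ?_⟩
  let P : Matrix (Fin r) (Fin r) (X.presheaf.stalk x) := c'.toMatrix v
  have hdet : g.det w = sp x P.det := by
    rw [Module.Basis.det_apply, RingHom.map_det]
    congr 1
    refine Matrix.ext fun i j => ?_
    show g.repr (w j) i = sp x (c'.repr (v j) i)
    rw [← hv j, hrepr]
  have hP : P.det ≠ 0 := fun h => (g.isUnit_det w).ne_zero (by rw [hdet, h, map_zero])
  have hspan : (Submodule.span (X.presheaf.stalk x) (Set.range v)).map c'.equivFun.toLinearMap =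
      LinearMap.range P.mulVecLin := by
    rw [Matrix.range_mulVecLin, Submodule.map_span, ← Set.range_comp]
    congr 1
  have hlen : Module.length (X.presheaf.stalk x) (N ⧸ Submodule.span (X.presheaf.stalk x) (Set.range v)) =
      Ring.ord (X.presheaf.stalk x) P.det := by
    rw [← CycNorm.length_coker_eq_ord_det hP]
    exact (Submodule.Quotient.equiv _ _ c'.equivFun hspan).length_eq
  rw [hlen, hdet]
  haveI : Ring.KrullDimLE 1 (X.presheaf.stalk x) := Ring.krullDimLE_iff.2 (by
    rw [ringKrullDim_stalk_eq_coheight, hx]; exact le_rfl)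
  have hfin : Ring.ord (X.presheaf.stalk x) P.det ≠ ⊤ :=
    Ring.ord_ne_top (mem_nonZeroDivisors_of_ne_zero hP)
  obtain ⟨k, hk⟩ := ENat.ne_top_iff_exists.1 hfin
  rw [← hk, ENat.toNat_natCast]
  refine ((Scheme.ord_eq_iff hx (sp_ne_zero hP)).2 ?_).symm
  refine (Ring.ordFrac_eq_ord (R := X.presheaf.stalk x) (K := X.functionField) hP).trans ?_
  rw [Ring.ordMonoidWithZeroHom_eq_coe _ (mem_nonZeroDivisors_of_ne_zero hP) hk.symm]

end Algebra

/-- The free module of rank `r`. -/
def freeO (X : Scheme.{u}) : ℕ → X.Modules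
  | 0 => 0
  | r + 1 => Coh.structureModule X ⊞ freeO X r

variable [IsLocallyNoetherian X]

theorem isCoh_freeO : ∀ r, Coh.IsCoh (freeO X r)
  | 0 => K0Coh.isCoh_of_isZero (isZero_zero _)
  | r + 1 => W7Exist.isCoh_biprod RefStalk.isCoh_structureModule (isCoh_freeO r)

theorem cl_freeO {δ : X → ℤ} {n : ℤ} (htop : ∀ F : X.Modules, Coh.IsCoh F → Cyc.CohLe δ n F) : ∀ r : ℕ,
    KZero.clSub (Cyc.CohLe δ n) (freeO X r) = (r : ℤ) • KZero.clSub (Cyc.CohLe δ n) (Coh.structureModule X)
  | 0 => by
    rw [Nat.cast_zero, zero_smul]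
    exact K0Dev.cl_zero (isZero_zero _)
  | r + 1 => by
    have h := K0Dev.cl_add (Cyc.CohLe δ n)
      (ShortComplex.Splitting.ofHasBinaryBiproduct (Coh.structureModule X) (freeO X r)).shortExact
      (htop _ RefStalk.isCoh_structureModule) (htop _ (isCoh_freeO (r + 1))) (htop _ (isCoh_freeO r))
    refine h.trans ?_
    rw [Nat.cast_succ, add_smul, one_smul, cl_freeO htop r, add_comm]

/-- A family of vectors as a morphism from a free module to a skyscraper. -/
theorem exists_frameMap (P : ModuleCat.{u} (X.presheaf.stalk (genericPoint X))) :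
    ∀ (r : ℕ) (b : Fin r → P), ∃ (d : freeO X r ⟶ (KFlat.sky (genericPoint X)).obj P),
      ∀ x : X, ∃ z : Fin r → (St x).obj (freeO X r), Submodule.span (X.presheaf.stalk x) (Set.range z) = ⊤ ∧
        ∀ i, KFlat.skyEvalₗ (genericPoint X) P (msp _ (toGen x) (((St x).map d).hom (z i))) = b i
  | 0, _ => ⟨0, fun x => ⟨Fin.elim0, by
      haveI : Subsingleton ((St x).obj (freeO X 0)) :=
        ModuleCat.subsingleton_of_isZero ((St x).map_isZero (isZero_zero _))
      exact Subsingleton.elim _ _, fun i => i.elim0⟩⟩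
  | r + 1, b => by
    obtain ⟨d', hd'⟩ := exists_frameMap P r fun i => b i.succ
    obtain ⟨e, he⟩ := RefStalk.exists_structStalk (X := X) (genericPoint X)
    let φ : (St (genericPoint X)).obj (Coh.structureModule X) ⟶ P :=
      ModuleCat.ofHom ((LinearMap.toSpanSingleton (X.presheaf.stalk (genericPoint X)) P (b 0)).comp e.symm.toLinearMap)
    let d₀ := KFlat.toSky (genericPoint X) φ
    refine ⟨biprod.desc d₀ d', fun x => ?_⟩
    obtain ⟨z, hz, hb⟩ := hd' x
    let one := RefDiv.oneM (X := X) x
    let z' : Fin (r + 1) → (St x).obj (freeO X (r + 1)) := Fin.cons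
      (((St x).map (biprod.inl : Coh.structureModule X ⟶ freeO X (r + 1))).hom one)
      fun i => ((St x).map (biprod.inr : freeO X r ⟶ freeO X (r + 1))).hom (z i)
    refine ⟨z', ?_, fun i => ?_⟩
    · refine eq_top_iff.2 fun v _ => ?_
      have hv : v = ((St x).map (biprod.inl : Coh.structureModule X ⟶ freeO X (r + 1))).hom
            (((St x).map (biprod.fst : freeO X (r + 1) ⟶ Coh.structureModule X)).hom v) +
          ((St x).map (biprod.inr : freeO X r ⟶ freeO X (r + 1))).hom
            (((St x).map (biprod.snd : freeO X (r + 1) ⟶ freeO X r)).hom v) := by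
        have h := congrArg ((St x).map) (biprod.total (X := Coh.structureModule X) (Y := freeO X r))
        rw [Functor.map_add, Functor.map_comp, Functor.map_comp, CategoryTheory.Functor.map_id] at h
        exact (congrArg (fun f => f.hom v) h).symm
      rw [hv]
      refine add_mem ?_ ?_
      · obtain ⟨a, ha⟩ := (RefDiv.oneM_bijective x).2
          (((St x).map (biprod.fst : freeO X (r + 1) ⟶ Coh.structureModule X)).hom v)
        rw [← ha, map_smul]
        exact Submodule.smul_mem _ _ (Submodule.subset_span ⟨0, Fin.cons_zero _ _⟩)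
      · have hle : Submodule.span (X.presheaf.stalk x) (Set.range z) ≤
            (Submodule.span (X.presheaf.stalk x) (Set.range z')).comap
              ((St x).map (biprod.inr : freeO X r ⟶ freeO X (r + 1))).hom := Submodule.span_le.2 (by
          rintro _ ⟨j, rfl⟩
          exact Submodule.subset_span ⟨j.succ, Fin.cons_succ _ _ _⟩)
        rw [hz] at hle
        exact hle Submodule.mem_top
    · cases i using Fin.cases with
      | zero =>
        show KFlat.skyEvalₗ _ P (msp _ (toGen x) (((St x).map (biprod.desc d₀ d')).hom (z' 0))) = b 0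
        rw [show z' 0 = ((St x).map biprod.inl).hom one from Fin.cons_zero _ _,
          show ((St x).map (biprod.desc d₀ d')).hom (((St x).map biprod.inl).hom one) = ((St x).map d₀).hom one from
            congrArg (fun (f : (St x).obj (Coh.structureModule X) ⟶ (St x).obj ((KFlat.sky (genericPoint X)).obj P)) => f.hom one) (((St x).map_comp _ _).symm.trans (congrArg (St x).map (biprod.inl_desc _ _)))]
        refine (congrArg (KFlat.skyEvalₗ (genericPoint X) P) (stalkMap_msp d₀ (toGen x) one).symm).trans ?_
        rw [RefDiv.msp_oneM]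
        refine (congrArg (fun f => f.hom (RefDiv.oneM (genericPoint X))) (CycK0.toSky_st φ)).trans ?_
        show (e.symm (RefDiv.oneM (genericPoint X))) • b 0 = b 0
        rw [show e.symm (RefDiv.oneM (genericPoint X)) = 1 from (LinearEquiv.symm_apply_eq e).2
          ((he 1).trans (one_smul _ _)).symm, one_smul]
      | succ j =>
        show KFlat.skyEvalₗ _ P (msp _ (toGen x) (((St x).map (biprod.desc d₀ d')).hom (z' j.succ))) = b j.succ
        rw [show z' j.succ = ((St x).map biprod.inr).hom (z j) from Fin.cons_succ _ _ _,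
          show ((St x).map (biprod.desc d₀ d')).hom (((St x).map biprod.inr).hom (z j)) = ((St x).map d').hom (z j) from
            congrArg (fun (f : (St x).obj (freeO X r) ⟶ (St x).obj ((KFlat.sky (genericPoint X)).obj P)) => f.hom (z j)) (((St x).map_comp _ _).symm.trans (congrArg (St x).map (biprod.inr_desc _ _)))]
        exact hb j

lemma skyEval_msp_injective (P : ModuleCat.{u} (X.presheaf.stalk (genericPoint X))) (x : X) :
    Function.Injective fun z : (St x).obj ((KFlat.sky (genericPoint X)).obj P) =>
      KFlat.skyEvalₗ (genericPoint X) P (msp _ (toGen x) z) := by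
  have key : ∀ w : (St x).obj ((KFlat.sky (genericPoint X)).obj P),
      KFlat.skyEvalₗ (genericPoint X) P (msp _ (toGen x) w) = 0 → w = 0 := fun w h0 => by
    obtain ⟨U, hU, s, rfl⟩ := KFlat.exists_pgerm (DCoh.toP.obj ((KFlat.sky (genericPoint X)).obj P)) x w
    have h1 : (show KFlat.SkySec (genericPoint X) P U from s) ⟨(toGen x).mem_open U.2 hU⟩ = 0 :=
      ((KFlat.skyEval_germ (genericPoint X) P U ((toGen x).mem_open U.2 hU) s).symm.trans
        (congrArg (KFlat.skyEvalₗ (genericPoint X) P)
          (msp_germ ((KFlat.sky (genericPoint X)).obj P) (toGen x) hU s).symm)).trans h0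
    have h2 : (show KFlat.SkySec (genericPoint X) P U from s) = 0 := funext fun hh => h1
    exact (congrArg _ h2).trans
      (map_zero (KFlat.pgerm (DCoh.toP.obj ((KFlat.sky (genericPoint X)).obj P)) x U hU))
  intro z z' hz
  refine sub_eq_zero.1 (key _ ?_)
  rw [map_sub, map_sub]
  exact sub_eq_zero.2 hz

/-- Length of a stalk of a cokernel. -/
theorem length_st_cokernel {A B : X.Modules} (f : A ⟶ B) (x : X) :
    Module.length (X.presheaf.stalk x) ((St x).obj (cokernel f)) =
      Module.length (X.presheaf.stalk x) (((St x).obj B) ⧸ LinearMap.range ((St x).map f).hom) :=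
  (PreservesCokernel.iso (St x) f ≪≫ ModuleCat.cokernelIsoRangeQuotient ((St x).map f)).toLinearEquiv.length_eq

variable {δ : X → ℤ} {n : ℤ}

/-- The class of a torsion-free module with a generic frame is given by the orders of the frame. -/
theorem exists_frame_class (hnorm : Pi1.IsNormalScheme X) (hX : Cyc.IsSetup X δ) (hn : δ (genericPoint X) = n)
    {F : X.Modules} (hF : Coh.IsCoh F) (htf : TorSh.IsTorsionFree F) {r : ℕ}
    (b : Module.Basis (Fin r) X.functionField (Gn F)) (a : X → ℤ)
    (ha : ∀ x, Order.coheight x = 1 → ∃ (f : Fin r → F.presheaf.stalk x)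
      (g : Module.Basis (Fin r) X.functionField (Gn F)),
        (∀ i, g i = msp F (toGen x) (f i)) ∧ Submodule.span (X.presheaf.stalk x) (Set.range f) = ⊤ ∧
        Scheme.ord (g.det b) x = a x) :
    ∃ A B : X.Modules, Cyc.CohLe δ (n - 1) A ∧ Cyc.CohLe δ (n - 1) B ∧
      Cyc.toK0CohQuot δ n (n - 2) F - (r : ℤ) • Cyc.toK0CohQuot δ n (n - 2) (Coh.structureModule X) =
        Cyc.toK0CohQuot δ n (n - 2) A - Cyc.toK0CohQuot δ n (n - 2) B ∧
      ∀ x, δ x = n - 1 → Cyc.sheafFun δ (n - 1) A x - Cyc.sheafFun δ (n - 1) B x = a x := by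
  classical
  have hδ := hX.2.2
  have top : ∀ {M : X.Modules}, Coh.IsCoh M → Cyc.CohLe δ n M := fun h => cohLe_top hδ hn h
  let η := genericPoint X
  let P : ModuleCat.{u} (X.presheaf.stalk η) := (St η).obj F
  let S := (KFlat.sky η).obj P
  obtain ⟨d₀, hd₀⟩ := exists_frameMap P r fun i => (b i : P)
  let i₀ : F ⟶ S := KFlat.toSky η (𝟙 P)
  let χ := biprod.desc i₀ d₀
  let G := Abelian.image χ
  let i : F ⟶ G := biprod.inl ≫ Abelian.factorThruImage χ
  let d : freeO X r ⟶ G := biprod.inr ≫ Abelian.factorThruImage χ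
  have hi : i ≫ Abelian.image.ι χ = i₀ := by
    rw [Category.assoc, Abelian.image.fac, biprod.inl_desc]
  have hd : d ≫ Abelian.image.ι χ = d₀ := by
    rw [Category.assoc, Abelian.image.fac, biprod.inr_desc]
  have hS : Coh.IsQCoh S := by
    refine QC.isQCoh_of_iso (productUniqueIso fun _ : PUnit.{u + 1} => S) ?_
    refine CycK0.isQCoh_prod_sky (fun _ : PUnit.{u + 1} => η) (fun _ => P) fun _ c hc m => ?_
    have : c = 0 := by
      letI : Field (X.presheaf.stalk η) := inferInstanceAs (Field X.functionField)
      by_contra h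
      exact (IsLocalRing.mem_maximalIdeal c).1 hc (IsUnit.mk0 c h)
    rw [this, zero_smul]
  have hsrc : Coh.IsCoh (F ⊞ freeO X r) := W7Exist.isCoh_biprod hF (isCoh_freeO r)
  have hG : Coh.IsCoh G := ⟨QC.isQCoh_image hsrc.1 hS χ, QC.isFT_of_epi (Abelian.factorThruImage χ) hsrc.2⟩
  -- evaluation inside the generic stalk
  let μ : ∀ x : X, G.presheaf.stalk x →+ Gn F := fun x =>
    ((KFlat.skyEvalₗ η P).toAddMonoidHom.comp (msp S (toGen x))).comp ((St x).map (Abelian.image.ι χ)).hom.toAddMonoidHom
  have hμinj : ∀ x, Function.Injective (μ x) := fun x =>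
    (skyEval_msp_injective P x).comp ((ModuleCat.mono_iff_injective _).1 inferInstance)
  have hμsmul : ∀ x (c : X.presheaf.stalk x) (m : G.presheaf.stalk x), μ x (c • m) = sp x c • μ x m := fun x c m => by
    show KFlat.skyEvalₗ η P (msp S (toGen x) (((St x).map (Abelian.image.ι χ)).hom (c • m))) = _
    rw [map_smul, msp_smul]
    exact (KFlat.skyEvalₗ η P).map_smul _ _
  have hμi : ∀ x (m : F.presheaf.stalk x), μ x (((St x).map i).hom m) = msp F (toGen x) m := fun x m => by
    show KFlat.skyEvalₗ η P (msp S (toGen x) (((St x).map (Abelian.image.ι χ)).hom (((St x).map i).hom m))) = _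
    rw [show ((St x).map (Abelian.image.ι χ)).hom (((St x).map i).hom m) = ((St x).map i₀).hom m from
      congrArg (fun (f : (St x).obj F ⟶ (St x).obj S) => f.hom m) (((St x).map_comp _ _).symm.trans (congrArg (St x).map hi))]
    refine (congrArg (KFlat.skyEvalₗ η P) (stalkMap_msp i₀ (toGen x) m).symm).trans ?_
    exact congrArg (fun f => f.hom (msp F (toGen x) m)) (CycK0.toSky_st (𝟙 P))
  have hμd : ∀ x, ∃ z : Fin r → (St x).obj (freeO X r), Submodule.span (X.presheaf.stalk x) (Set.range z) = ⊤ ∧
      ∀ j, μ x (((St x).map d).hom (z j)) = b j := fun x => by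
    obtain ⟨z, hz, hb⟩ := hd₀ x
    refine ⟨z, hz, fun j => Eq.trans ?_ (hb j)⟩
    show KFlat.skyEvalₗ η P (msp S (toGen x) (((St x).map (Abelian.image.ι χ)).hom (((St x).map d).hom (z j)))) = _
    rw [show ((St x).map (Abelian.image.ι χ)).hom (((St x).map d).hom (z j)) = ((St x).map d₀).hom (z j) from
      congrArg (fun (f : (St x).obj (freeO X r) ⟶ (St x).obj S) => f.hom (z j)) (((St x).map_comp _ _).symm.trans (congrArg (St x).map hd))]
  haveI hGtf : ∀ x, Module.IsTorsionFree (X.presheaf.stalk x) (G.presheaf.stalk x) := fun x => by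
    refine Module.IsTorsionFree.mk fun c hc m m' hmm => hμinj x ?_
    have h := congrArg (μ x) hmm
    rw [hμsmul, hμsmul] at h
    exact (smul_right_injective (Gn F) (sp_ne_zero hc.ne_zero)) h
  -- kernels vanish
  have hinj_i : ∀ x, Function.Injective ((St x).map i).hom := fun x m m' h => by
    haveI := htf x
    exact msp_injective hF.1 x (by rw [← hμi, ← hμi, h])
  have hinj_d : ∀ x, Function.Injective ((St x).map d).hom := fun x => by
    obtain ⟨z, hz, hb⟩ := hμd x
    letI : Algebra (X.presheaf.stalk x) X.functionField := (sp x).toAlgebra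
    refine (injective_iff_map_eq_zero _).2 fun v hv => ?_
    obtain ⟨c, rfl⟩ := (Submodule.mem_span_range_iff_exists_fun _).1 (hz ▸ Submodule.mem_top : v ∈ _)
    have h0 : ∑ j, sp x (c j) • b j = 0 := by
      have h := congrArg (μ x) hv
      rw [map_zero, map_sum, map_sum] at h
      refine Eq.trans ?_ h
      exact Finset.sum_congr rfl fun j _ => by rw [map_smul, hμsmul, hb]
    have hc : ∀ j, c j = 0 := fun j => sp_injective x (by
      rw [map_zero]; exact Fintype.linearIndependent_iff.1 b.linearIndependent _ h0 j)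
    simp [hc]
  have hmono : ∀ {M : X.Modules} (φ : M ⟶ G), (∀ x, Function.Injective ((St x).map φ).hom) → Mono φ := fun φ h =>
    Preadditive.mono_of_isZero_kernel _ ((K0Dev.isZero_iff_stalks _).2 fun x => by
      haveI : Mono ((St x).map φ) := (ModuleCat.mono_iff_injective _).2 (h x)
      exact IsZero.of_mono_eq_zero ((St x).map (kernel.ι φ)) ((cancel_mono ((St x).map φ)).1
        (by rw [← Functor.map_comp, kernel.condition, Functor.map_zero, zero_comp])))
  haveI := hmono i hinj_i
  haveI := hmono d hinj_d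
  -- generic surjectivity
  have hzero : ∀ {M : X.Modules} (φ : M ⟶ G), Coh.IsCoh M →
      (Function.Surjective fun m : (St η).obj M => μ η (((St η).map φ).hom m)) → Cyc.CohLe δ (n - 1) (cokernel φ) :=
    fun φ hM hs => CycK0.small_of_zero (CycK0.cohLe_cokernel φ hM.1 (top hG)) fun x hx => by
      obtain rfl : x = η := eq_genericPoint hδ (hx.trans hn.symm)
      haveI : Epi ((St η).map φ) := (ModuleCat.epi_iff_surjective _).2 fun y => by
        obtain ⟨m, hm⟩ := hs (μ η y)
        exact ⟨m, hμinj η hm⟩
      exact IsZero.of_epi_eq_zero ((St η).map (cokernel.π φ)) ((cancel_epi ((St η).map φ)).1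
        (by rw [← Functor.map_comp, cokernel.condition, Functor.map_zero, comp_zero]))
  have hA := hzero d (isCoh_freeO r) (by
    obtain ⟨z, -, hb⟩ := hμd η
    intro y
    refine ⟨∑ j, (b.repr y j : X.presheaf.stalk η) • z j, ?_⟩
    show μ η (((St η).map d).hom _) = y
    rw [map_sum, map_sum]
    conv_rhs => rw [← b.sum_repr y]
    refine Finset.sum_congr rfl fun j _ => ?_
    rw [map_smul, hμsmul, hb]
    congr 1
    show (X.presheaf.stalkSpecializes _).hom _ = _
    rw [TopCat.Presheaf.stalkSpecializes_refl]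
    rfl)
  have hB := hzero i hF (fun y => ⟨y, by
    show μ η (((St η).map i).hom y) = y
    rw [hμi]
    show (F.presheaf.stalkSpecializes _).hom y = y
    rw [TopCat.Presheaf.stalkSpecializes_refl]
    rfl⟩)
  refine ⟨cokernel d, cokernel i, hA, hB, ?_, fun x hx => ?_⟩
  · have e₁ : (ShortComplex.mk d (cokernel.π d) (cokernel.condition _)).ShortExact :=
      { exact := ShortComplex.exact_of_g_is_cokernel _ (cokernelIsCokernel _) }
    have e₂ : (ShortComplex.mk i (cokernel.π i) (cokernel.condition _)).ShortExact :=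
      { exact := ShortComplex.exact_of_g_is_cokernel _ (cokernelIsCokernel _) }
    have q₁ : Cyc.toK0CohQuot δ n (n - 2) G = Cyc.toK0CohQuot δ n (n - 2) (freeO X r) +
        Cyc.toK0CohQuot δ n (n - 2) (cokernel d) :=
      CycK0.q_add e₁ (top (isCoh_freeO r)) (top hG) (top hA.1) (n - 2)
    have q₂ : Cyc.toK0CohQuot δ n (n - 2) G = Cyc.toK0CohQuot δ n (n - 2) F +
        Cyc.toK0CohQuot δ n (n - 2) (cokernel i) :=
      CycK0.q_add e₂ (top hF) (top hG) (top hB.1) (n - 2)
    have q₃ : Cyc.toK0CohQuot δ n (n - 2) (freeO X r) =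
        (r : ℤ) • Cyc.toK0CohQuot δ n (n - 2) (Coh.structureModule X) :=
      (congrArg QuotientAddGroup.mk (cl_freeO (fun M h => top h) r)).trans (QuotientAddGroup.mk_zsmul _ _ _)
    rw [← q₃, sub_eq_sub_iff_add_eq_add, ← q₂, q₁]
    abel
  · have hc : Order.coheight x = 1 := (CycDim.coheight_eq_one_iff hδ x).2 (by omega)
    haveI := RegDual.finite_stalk hG x
    obtain ⟨f, g₀, hg₀, hf, hord⟩ := ha x hc
    obtain ⟨z, hz, hb⟩ := hμd x
    obtain ⟨g₁, hg₁, hr₁, hl₁⟩ := length_eq_ord hnorm hc (μ x) (hμinj x) (hμsmul x)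
      (fun j => ((St x).map d).hom (z j)) b hb
    obtain ⟨g₂, hg₂, hr₂, hl₂⟩ := length_eq_ord hnorm hc (μ x) (hμinj x) (hμsmul x)
      (fun j => ((St x).map i).hom (f j)) g₀ (fun j => (hμi x (f j)).trans (hg₀ j).symm)
    have hrange : ∀ {M : X.Modules} (φ : M ⟶ G) (v : Fin r → (St x).obj M),
        Submodule.span (X.presheaf.stalk x) (Set.range v) = ⊤ →
        Submodule.span (X.presheaf.stalk x) (Set.range fun j => ((St x).map φ).hom (v j)) =
          LinearMap.range ((St x).map φ).hom := fun φ v hv => by
      rw [LinearMap.range_eq_map, ← hv, Submodule.map_span, ← Set.range_comp]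
      rfl
    have hcok : ∀ {M : X.Modules} (φ : M ⟶ G) (v : Fin r → (St x).obj M) (t : ℤ),
        Submodule.span (X.presheaf.stalk x) (Set.range v) = ⊤ →
        ((Module.length (X.presheaf.stalk x) (((St x).obj G) ⧸
          Submodule.span (X.presheaf.stalk x) (Set.range fun j => ((St x).map φ).hom (v j)))).toNat : ℤ) = t →
        Cyc.sheafFun δ (n - 1) (cokernel φ) x = t := fun φ v t hv ht => by
      rw [← ht, Cyc.sheafFun, if_pos hx]
      refine congrArg (fun l : ℕ∞ => ((l.toNat : ℕ) : ℤ)) ((length_st_cokernel φ x).trans ?_)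
      rw [hrange φ v hv]
    rw [hcok d z _ hz hl₁, hcok i f _ hf hl₂]
    -- compare the two bases of the lattice
    have hunit : Scheme.ord (g₁.det g₂) x = 0 := by
      have hin : ∀ (g g' : Module.Basis (Fin r) X.functionField (Gn F)),
          (∀ m : G.presheaf.stalk x, ∀ j, g.repr (μ x m) j ∈ Set.range (sp x)) →
          (∀ j, g' j ∈ Set.range (μ x)) → g.det g' ∈ (sp x).range := by
        intro g g' hg hg'
        rw [Module.Basis.det_apply]
        have hM : ∀ i j, g.toMatrix g' i j ∈ Set.range (sp x) := fun i j => by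
          obtain ⟨m, hm⟩ := hg' j
          rw [Module.Basis.toMatrix_apply, ← hm]
          exact hg m i
        choose M hM using hM
        exact ⟨Matrix.det (Matrix.of M), by
          rw [RingHom.map_det]; exact congrArg Matrix.det (Matrix.ext fun i j => hM i j)⟩
      obtain ⟨u, hu⟩ := hin g₁ g₂ hr₁ hg₂
      obtain ⟨u', hu'⟩ := hin g₂ g₁ hr₂ hg₁
      have hprod : sp x (u * u') = sp x 1 := by
        rw [map_mul, hu, hu', map_one, Module.Basis.det_apply, Module.Basis.det_apply, ← Matrix.det_mul,
          Module.Basis.toMatrix_mul_toMatrix, Module.Basis.toMatrix_self, Matrix.det_one]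
      rw [← hu]
      exact RefDiv.ord_sp_isUnit hc (IsUnit.of_mul_eq_one _ (sp_injective x hprod))
    have hmul : ∀ (g g' : Module.Basis (Fin r) X.functionField (Gn F)) (w : Fin r → Gn F),
        g.det w = g.det g' * g'.det w := fun g g' w => by
      rw [Module.Basis.det_apply, Module.Basis.det_apply, Module.Basis.det_apply, ← Matrix.det_mul,
        Module.Basis.toMatrix_mul_toMatrix]
    have n₁ : g₁.det g₂ ≠ 0 := (g₁.isUnit_det g₂).ne_zero
    have n₂ : g₂.det g₀ ≠ 0 := (g₂.isUnit_det g₀).ne_zero
    have n₃ : g₀.det b ≠ 0 := (g₀.isUnit_det b).ne_zero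
    rw [hmul g₁ g₂, hmul g₂ g₀ b, Scheme.ord_mul n₁ (mul_ne_zero n₂ n₃), Scheme.ord_mul n₂ n₃, hunit, hord]
    ring

end Groth.Agent.RefK0
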