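import Groth.Agent.RefK0.DetClass
import Groth.Agent.RefStalk.Extend
import Groth.Agent.RefDiv.Inv
import Groth.Agent.GenSection.Basic
import Groth.Agent.PnHodge.ExtCoh
import Groth.Agent.CycK0.Rat

/-!
# The class of a torsion-free module modulo codimension two is given by its determinant
-/

set_option autoImplicit false
set_option linter.unusedSectionVars false
set_option linter.style.haveILetI false
set_option backward.isDefEq.respectTransparency false
set_option backward.isDefEq.respectTransparency.types false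

universe u

open CategoryTheory CategoryTheory.Limits AlgebraicGeometry TopologicalSpace Opposite
open Groth.Agent.K0Dev (St)
open Groth.Agent.RefStalk (msp msp_germ toGen stalkMap_msp)
open Groth.Agent.WeakAssLib (mgerm mgerm_smul mgerm_res)
open Groth.Agent.QC (res resO)

noncomputable section

namespace Groth.Agent.RefK0

variable {X : Scheme.{u}}

/-- A basis of sections over an affine open gives bases of the stalks. -/
theorem exists_stalkBasis {M : X.Modules} (hM : Coh.IsQCoh M) {A : X.Opens} (hA : IsAffineOpen A)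
    {ι : Type*} (f : Module.Basis ι Γ(X, A) Γ(M, A)) {y : X} (hy : y ∈ A) :
    ∃ c : Module.Basis ι (X.presheaf.stalk y) (M.presheaf.stalk y), ∀ i, c i = mgerm M hy (f i) := by
  letI := Module.compHom (M.presheaf.stalk y) (X.presheaf.germ A y hy).hom
  letI := (X.presheaf.germ A y hy).hom.toAlgebra
  haveI := hA.isLocalization_stalk ⟨y, hy⟩
  haveI : IsScalarTower Γ(X, A) (X.presheaf.stalk y) (M.presheaf.stalk y) :=
    ⟨fun a c m => mul_smul ((X.presheaf.germ A y hy).hom a) c m⟩
  obtain ⟨g, hg, hgs⟩ := RefStalk.exists_loc hA hM hy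
  haveI := hg
  exact ⟨f.ofIsLocalizedModule (X.presheaf.stalk y) (hA.primeIdealOf ⟨y, hy⟩).asIdeal.primeCompl g, fun i =>
    (f.ofIsLocalizedModule_apply _ _ _ i).trans (hgs (f i))⟩

variable [IsIntegral X]

/-- The basis of the generic stalk given by a basis of sections. -/
theorem exists_genBasis {M : X.Modules} (hM : Coh.IsQCoh M) {A : X.Opens} (hA : IsAffineOpen A)
    {ι : Type*} (f : Module.Basis ι Γ(X, A) Γ(M, A)) (hη : genericPoint X ∈ A) :
    ∃ c : Module.Basis ι X.functionField (Gn M), ∀ i, c i = mgerm M hη (f i) :=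
  exists_stalkBasis hM hA f hη

/-- A coherent module free at `x` has a basis of sections near `x`, indexed by the generic rank. -/
theorem exists_secBasis [IsLocallyNoetherian X] {F : X.Modules} (hF : Coh.IsCoh F) {r : ℕ}
    (hrk : Module.finrank (X.presheaf.stalk (genericPoint X)) (F.presheaf.stalk (genericPoint X)) = r) {x : X}
    (h : Module.Free (X.presheaf.stalk x) (F.presheaf.stalk x)) :
    ∃ A : X.Opens, IsAffineOpen A ∧ x ∈ A ∧ genericPoint X ∈ A ∧
      Nonempty (Module.Basis (Fin r) Γ(X, A) Γ(F, A)) := by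
  obtain ⟨A, hA, hxA, hfree⟩ := RefStalk.exists_free_affine hF h
  have hη : genericPoint X ∈ A := (toGen x).mem_open A.2 hxA
  haveI := hfree
  let f := Module.Free.chooseBasis Γ(X, A) Γ(F, A)
  obtain ⟨c, -⟩ := exists_genBasis hF.1 hA f hη
  haveI : Module.Finite X.functionField (Gn F) := RegDual.finite_stalk hF _
  exact ⟨A, hA, hxA, hη, ⟨f.reindex (c.indexEquiv (Module.finBasisOfFinrankEq X.functionField (Gn F) hrk))⟩⟩

/-- An alternating map is determined by its value on a basis. -/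
theorem alt_eq_smul {R M N : Type*} [CommRing R] [AddCommGroup M] [Module R M] [AddCommGroup N] [Module R N]
    {r : ℕ} (f : M [⋀^Fin r]→ₗ[R] N) (b : Module.Basis (Fin r) R M) (v : Fin r → M) :
    f v = b.det v • f b := by
  classical
  have h : f = (LinearMap.toSpanSingleton R N (f b)).compAlternatingMap b.det := by
    refine b.ext_alternating fun i hi => ?_
    let σ : Equiv.Perm (Fin r) := Equiv.ofBijective i (Finite.injective_iff_bijective.1 hi)
    change f (b ∘ σ) = b.det (b ∘ σ) • f b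
    rw [AlternatingMap.map_perm, AlternatingMap.map_perm, b.det_self, Units.smul_def, Units.smul_def,
      smul_assoc, one_smul]
  exact congrArg (fun g : M [⋀^Fin r]→ₗ[R] N => g v) h

variable [IsLocallyNoetherian X] {F W : X.Modules} {r : ℕ}
  (φ : ∀ U : X.affineOpens, Γ(W, U.1) ≃ₗ[Γ(X, U.1)] ↥(⋀[Γ(X, U.1)]^r Γ(F, U.1)))
  (hφ : ∀ (U V : X.affineOpens) (h : V.1 ≤ U.1) (e : Fin r → Γ(F, U.1)),
    res W h ((φ U).symm (exteriorPower.ιMulti _ r e)) = (φ V).symm (exteriorPower.ιMulti _ r fun j => res F h (e j)))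

/-- The section of `W` given by a basis of sections of `F`. -/
abbrev detGen (A : X.affineOpens) (f : Module.Basis (Fin r) Γ(X, A.1) Γ(F, A.1)) : Γ(W, A.1) :=
  (φ A).symm (exteriorPower.ιMulti _ r ⇑f)

/-- It is a basis. -/
theorem exists_detBasis (A : X.affineOpens) (f : Module.Basis (Fin r) Γ(X, A.1) Γ(F, A.1)) :
    ∃ w : Module.Basis (Fin 1) Γ(X, A.1) Γ(W, A.1), w 0 = detGen φ A f := by
  let d : ↥(⋀[Γ(X, A.1)]^r Γ(F, A.1)) →ₗ[Γ(X, A.1)] Γ(X, A.1) := exteriorPower.alternatingMapLinearEquiv f.det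
  let g : Γ(X, A.1) →ₗ[Γ(X, A.1)] ↥(⋀[Γ(X, A.1)]^r Γ(F, A.1)) :=
    LinearMap.toSpanSingleton _ _ (exteriorPower.ιMulti _ r ⇑f)
  have h1 : g.comp d = LinearMap.id := by
    refine exteriorPower.linearMap_ext (AlternatingMap.ext fun v => ?_)
    rw [LinearMap.compAlternatingMap_apply, LinearMap.compAlternatingMap_apply, LinearMap.comp_apply, LinearMap.id_apply]
    refine (congrArg g (exteriorPower.alternatingMapLinearEquiv_apply_ιMulti f.det v)).trans ?_
    exact (alt_eq_smul (exteriorPower.ιMulti Γ(X, A.1) r (M := Γ(F, A.1))) f v).symm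
  have h2 : d.comp g = LinearMap.id := LinearMap.ext_ring (by
    show d ((1 : Γ(X, A.1)) • exteriorPower.ιMulti _ r ⇑f) = 1
    rw [one_smul, exteriorPower.alternatingMapLinearEquiv_apply_ιMulti, f.det_self])
  let e : Γ(W, A.1) ≃ₗ[Γ(X, A.1)] Γ(X, A.1) := (φ A).trans
    { d with invFun := g, left_inv := fun v => LinearMap.congr_fun h1 v, right_inv := fun v => LinearMap.congr_fun h2 v }
  refine ⟨(Module.Basis.singleton (Fin 1) Γ(X, A.1)).map e.symm, ?_⟩
  rw [Module.Basis.map_apply, Module.Basis.singleton_apply]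
  show (φ A).symm (g 1) = _
  exact congrArg _ (one_smul _ _)

include hφ

/-- Two generators differ generically by the determinant of the change of basis. -/
theorem germ_detGen (hF : Coh.IsQCoh F) (A B : X.affineOpens) (hA : genericPoint X ∈ A.1) (hB : genericPoint X ∈ B.1)
    (f : Module.Basis (Fin r) Γ(X, A.1) Γ(F, A.1)) (f₀ : Module.Basis (Fin r) Γ(X, B.1) Γ(F, B.1))
    (g g₀ : Module.Basis (Fin r) X.functionField (Gn F))
    (hg : ∀ i, g i = mgerm F hA (f i)) (hg₀ : ∀ i, g₀ i = mgerm F hB (f₀ i)) :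
    (mgerm W hB (detGen φ B f₀) : Gn W) = (g.det g₀ : X.functionField) • (mgerm W hA (detGen φ A f) : Gn W) := by
  classical
  obtain ⟨d, hd, hηd⟩ := A.2.exists_basicOpen_le (V := B.1) ⟨genericPoint X, hB⟩ hA
  obtain ⟨b, hb⟩ := GenSection.exists_basis_basicOpen hF A.2 f d
  let D : X.affineOpens := ⟨X.basicOpen d, A.2.basicOpen d⟩
  have hfb : ∀ l, res F (X.basicOpen_le d) (f l) = b l := fun l => by
    refine b.repr.injective (Finsupp.ext fun m => ?_)
    rw [hb, f.repr_self, b.repr_self, Finsupp.single_apply, Finsupp.single_apply]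
    split <;> simp
  let e : Fin r → Γ(F, D.1) := fun j => res F hd (f₀ j)
  have key : res W hd (detGen φ B f₀) = b.det e • res W (X.basicOpen_le d) (detGen φ A f) := by
    rw [hφ B D hd, hφ A D (X.basicOpen_le d), show (fun j => res F (X.basicOpen_le d) (f j)) = ⇑b from funext hfb,
      alt_eq_smul (exteriorPower.ιMulti Γ(X, D.1) r) b, map_smul]
  have hrepr : ∀ i j, g.repr (g₀ j) i = X.presheaf.germ D.1 (genericPoint X) hηd (b.repr (e j) i) := fun i j => by
    have hs : g₀ j = ∑ l, (X.presheaf.germ D.1 (genericPoint X) hηd (b.repr (e j) l) : X.functionField) • g l := by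
      have h := congrArg (mgerm F hηd) (b.sum_repr (e j))
      rw [map_sum, show mgerm F hηd (e j) = mgerm F hB (f₀ j) from mgerm_res F hd hηd (f₀ j), ← hg₀] at h
      refine h.symm.trans (Finset.sum_congr rfl fun l _ => ?_)
      rw [mgerm_smul, ← hfb, mgerm_res, hg]
    rw [hs, g.repr_sum_self]
  have hdet : g.det g₀ = X.presheaf.germ D.1 (genericPoint X) hηd (b.det e) := by
    rw [Module.Basis.det_apply, Module.Basis.det_apply, RingHom.map_det]
    exact congrArg Matrix.det (Matrix.ext fun i j => hrepr i j)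
  have h := congrArg (mgerm W hηd) key
  rw [mgerm_res, mgerm_smul, mgerm_res] at h
  rw [h, hdet]

omit hφ

/-- Bidual map on a free stalk. -/
theorem bijective_bidual_of_basis {M : X.Modules} (hM : Coh.IsCoh M) {x : X} {ι : Type} [Finite ι]
    (w : Module.Basis ι (X.presheaf.stalk x) (M.presheaf.stalk x)) :
    Function.Bijective (RefHull.stalkMapₗ (RefHull.bidualMap M) x) := by
  haveI := Module.Free.of_basis w
  haveI := Module.Finite.of_basis w
  exact RefStalk.bijective_stalkMap_bidualMap hM x (inferInstance : Module.IsReflexive _ _)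

omit φ

/-- Equal cycles give equal classes one step below. -/
theorem q_sub_eq {δ : X → ℤ} {k : ℤ} (hX : Cyc.IsSetup X δ) {A B A' B' : X.Modules}
    (hA : Cyc.CohLe δ k A) (hB : Cyc.CohLe δ k B) (hA' : Cyc.CohLe δ k A') (hB' : Cyc.CohLe δ k B') (a : X → ℤ)
    (h : ∀ x, δ x = k → Cyc.sheafFun δ k A x - Cyc.sheafFun δ k B x = a x)
    (h' : ∀ x, δ x = k → Cyc.sheafFun δ k A' x - Cyc.sheafFun δ k B' x = a x) :
    Cyc.toK0CohQuot δ (k + 1) (k - 1) A - Cyc.toK0CohQuot δ (k + 1) (k - 1) B =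
      Cyc.toK0CohQuot δ (k + 1) (k - 1) A' - Cyc.toK0CohQuot δ (k + 1) (k - 1) B' := by
  obtain ⟨ψ, hψ, hinj, -⟩ := CycK0.exists_psi (k := k) hX
  have heq : Cyc.sheafFun δ k (A ⊞ B') = Cyc.sheafFun δ k (A' ⊞ B) := by
    rw [CycK0.sheafFun_biprod hX hA hB', CycK0.sheafFun_biprod hX hA' hB]
    funext x
    rw [Pi.add_apply, Pi.add_apply]
    by_cases hx : δ x = k
    · have := h x hx
      have := h' x hx
      omega
    · simp [Cyc.sheafFun, hx]
  have hq := CycK0.q_raise (CycK0.cohLe_biprod hA hB') (CycK0.cohLe_biprod hA' hB) (hinj (by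
    rw [hψ _ (CycK0.cohLe_biprod hA hB'), hψ _ (CycK0.cohLe_biprod hA' hB), heq]))
  rw [CycK0.q_biprod (CycK0.cohLe_succ hA) (CycK0.cohLe_succ hB'),
    CycK0.q_biprod (CycK0.cohLe_succ hA') (CycK0.cohLe_succ hB)] at hq
  rw [sub_eq_sub_iff_add_eq_add]
  exact hq

/-- `[F] - r [O] = [W**] - [O]` modulo codimension two. -/
theorem det_class {δ : X → ℤ} {k : ℤ} (hnorm : Pi1.IsNormalScheme X) (hX : Cyc.IsSetup X δ)
    (hn : δ (genericPoint X) = k + 1) (hF : Coh.IsCoh F) (htf : TorSh.IsTorsionFree F)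
    (hrk : Module.finrank (X.presheaf.stalk (genericPoint X)) (F.presheaf.stalk (genericPoint X)) = r)
    (hW : ExtPow.IsExtPow r F W) :
    Cyc.toK0CohQuot δ (k + 1) (k - 1) F - (r : ℤ) • Cyc.toK0CohQuot δ (k + 1) (k - 1) (Coh.structureModule X) =
      Cyc.toK0CohQuot δ (k + 1) (k - 1) (RefHull.ddual W) -
        Cyc.toK0CohQuot δ (k + 1) (k - 1) (Coh.structureModule X) := by
  classical
  have hWc : Coh.IsCoh W := PnHodge.ExtCoh.isCoh_of_isExtPow hF hW
  have hdd : Coh.IsCoh (RefHull.ddual W) :=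
    RefStalk.isCoh_homSh (RefStalk.isCoh_homSh hWc RefStalk.isCoh_structureModule) RefStalk.isCoh_structureModule
  have hddtf : TorSh.IsTorsionFree (RefHull.ddual W) := fun x => by
    haveI := RefStalk.isReflexiveAt_ddual hWc x
    exact RefStalk.isTorsionFree_of_isReflexive _
  obtain ⟨φ, hφ⟩ := hW
  let η := genericPoint X
  have hfree : ∀ x : X, Order.coheight x ≤ 1 → Module.Free (X.presheaf.stalk x) (F.presheaf.stalk x) := fun x hx =>
    RefStalk.free_stalk_codim_one hnorm hF x (htf x) (by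
      rw [ringKrullDim_stalk_eq_coheight]
      exact fun h => absurd ((WithBot.coe_le_coe.1 h).trans hx) (by norm_num))
  have hηfree : Module.Free (X.presheaf.stalk η) (F.presheaf.stalk η) := by
    letI : Field (X.presheaf.stalk η) := inferInstanceAs (Field X.functionField)
    exact Module.Free.of_divisionRing _ _
  obtain ⟨A₀, hA₀, -, hη₀, ⟨f₀⟩⟩ := exists_secBasis hF hrk hηfree
  obtain ⟨g₀, hg₀⟩ := exists_genBasis hF.1 hA₀ f₀ hη₀
  obtain ⟨w₀, hw₀⟩ := exists_detBasis φ ⟨A₀, hA₀⟩ f₀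
  obtain ⟨u₀, hu₀⟩ := exists_genBasis hWc.1 hA₀ w₀ hη₀
  have hbi := RefDiv.bijective_bidual_generic hWc
  let ev : Gn W ≃ₗ[X.functionField] Gn (RefHull.ddual W) := LinearEquiv.ofBijective _ hbi
  let v₀ : Module.Basis (Fin 1) X.functionField (Gn (RefHull.ddual W)) := u₀.map ev
  have both : ∀ x, Order.coheight x = 1 → ∃ a : ℤ,
      (∃ (f : Fin r → F.presheaf.stalk x) (g : Module.Basis (Fin r) X.functionField (Gn F)),
        (∀ i, g i = msp F (toGen x) (f i)) ∧ Submodule.span (X.presheaf.stalk x) (Set.range f) = ⊤ ∧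
        Scheme.ord (g.det g₀) x = a) ∧
      ∃ (f : Fin 1 → (RefHull.ddual W).presheaf.stalk x)
        (g : Module.Basis (Fin 1) X.functionField (Gn (RefHull.ddual W))),
        (∀ i, g i = msp (RefHull.ddual W) (toGen x) (f i)) ∧ Submodule.span (X.presheaf.stalk x) (Set.range f) = ⊤ ∧
        Scheme.ord (g.det v₀) x = a := by
    intro x hx
    obtain ⟨A, hA, hxA, hη, ⟨fA⟩⟩ := exists_secBasis hF hrk (hfree x hx.le)
    obtain ⟨c, hc⟩ := exists_stalkBasis hF.1 hA fA hxA
    obtain ⟨g, hg⟩ := exists_genBasis hF.1 hA fA hη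
    refine ⟨Scheme.ord (g.det g₀) x, ⟨⇑c, g, fun i => ?_, c.span_eq, rfl⟩, ?_⟩
    · rw [hg, hc]
      exact (msp_germ F (toGen x) hxA (fA i)).symm
    obtain ⟨w, hw⟩ := exists_detBasis φ ⟨A, hA⟩ fA
    obtain ⟨cw, hcw⟩ := exists_stalkBasis hWc.1 hA w hxA
    obtain ⟨gw, hgw⟩ := exists_genBasis hWc.1 hA w hη
    let ex : W.presheaf.stalk x ≃ₗ[X.presheaf.stalk x] (RefHull.ddual W).presheaf.stalk x :=
      LinearEquiv.ofBijective _ (bijective_bidual_of_basis hWc cw)
    refine ⟨⇑(cw.map ex), gw.map ev, fun i => ?_, (cw.map ex).span_eq, congrArg (fun t => Scheme.ord t x) ?_⟩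
    · rw [Module.Basis.map_apply, Module.Basis.map_apply, hgw, hcw, ← msp_germ W (toGen x) hxA (w i)]
      exact stalkMap_msp (RefHull.bidualMap W) (toGen x) _
    · have h : u₀ 0 = g.det g₀ • gw 0 := by
        rw [hu₀, hgw, hw₀, hw]
        exact germ_detGen φ hφ hF.1 ⟨A, hA⟩ ⟨A₀, hA₀⟩ hη hη₀ fA f₀ g g₀ hg hg₀
      rw [Module.Basis.det_apply, Matrix.det_unique, Module.Basis.toMatrix_apply]
      show (gw.map ev).repr (v₀ 0) 0 = g.det g₀
      rw [show v₀ 0 = ev (u₀ 0) from Module.Basis.map_apply _ _ _, Module.Basis.map_repr, LinearEquiv.trans_apply,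
        LinearEquiv.symm_apply_apply, h, map_smul, Module.Basis.repr_self, Finsupp.smul_single, smul_eq_mul, mul_one,
        Finsupp.single_eq_same]
  choose a ha₁ ha₂ using both
  let a' : X → ℤ := fun x => if h : Order.coheight x = 1 then a x h else 0
  obtain ⟨P, Q, hP, hQ, hq, hs⟩ := exists_frame_class hnorm hX hn hF htf g₀ a' fun x hx => by
    simp only [a', dif_pos hx]
    exact ha₁ x hx
  obtain ⟨P', Q', hP', hQ', hq', hs'⟩ := exists_frame_class hnorm hX hn hdd hddtf v₀ a' fun x hx => by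
    simp only [a', dif_pos hx]
    exact ha₂ x hx
  rw [show k + 1 - 1 = k by ring] at hP hQ hP' hQ' hs hs'
  rw [show k + 1 - 2 = k - 1 by ring] at hq hq'
  rw [Nat.cast_one, one_smul] at hq'
  rw [hq, hq']
  exact q_sub_eq hX hP hQ hP' hQ' a' hs hs'

end Groth.Agent.RefK0
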