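import Groth.Agent.RefK0.Apps
import Groth.Agent.RefK0.Add
import Groth.Agent.CycK0.Degree
import Groth.Agent.Intersect.Num
import Groth.Agent.CycDim.DegBase
import Groth.Agent.ProjMor.ProjSpaceBase

/-!
# Intersection numbers as functions of classes
-/

set_option autoImplicit false
set_option linter.unusedSectionVars false
set_option linter.style.haveILetI false
set_option backward.isDefEq.respectTransparency false
set_option backward.isDefEq.respectTransparency.types false

universe u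

open CategoryTheory CategoryTheory.Limits AlgebraicGeometry

noncomputable section

namespace Groth.Agent.RefK0

section Alt

variable {X : Scheme.{u}} [IsLocallyNoetherian X] {δ : X → ℤ} {n : ℤ} {ι : Type*} [LinearOrder ι]
  {M : ι → X.Modules} (hM : ∀ i, PicF.IsInvertible (M i))

theorem alt_sub (s : Finset ι) (c c' : KZero.K0sub (Cyc.CohLe δ n)) :
    alt hM s (c - c') = alt hM s c - alt hM s c' := by
  simp only [alt, map_sub, smul_sub, Finset.sum_sub_distrib]

theorem alt_add (s : Finset ι) (c c' : KZero.K0sub (Cyc.CohLe δ n)) :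
    alt hM s (c + c') = alt hM s c + alt hM s c' := by
  simp only [alt, map_add, smul_add, Finset.sum_add_distrib]

theorem alt_zsmul (s : Finset ι) (m : ℤ) (c : KZero.K0sub (Cyc.CohLe δ n)) :
    alt hM s (m • c) = m • alt hM s c := by
  simp only [alt, map_zsmul, Finset.smul_sum]
  exact Finset.sum_congr rfl fun I _ => smul_comm _ _ _

variable [IsIntegral X]

theorem refPow_rel (hnorm : Pi1.IsNormalScheme X) (hX : Cyc.IsSetup X δ) (hn : δ (genericPoint X) = n)
    {F : X.Modules} (hF : RefHull.IsRef1 F) : ∀ m : ℕ,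
      RefHull.IsRef1 (RefPow.refPow F m) ∧
        KZero.clSub (Cyc.CohLe δ n) (RefPow.refPow F m) - KZero.clSub (Cyc.CohLe δ n) (Coh.structureModule X) -
          (m : ℤ) • (KZero.clSub (Cyc.CohLe δ n) F - KZero.clSub (Cyc.CohLe δ n) (Coh.structureModule X))
            ∈ Fil δ n (n - 2)
  | 0 => ⟨RefDiv.isRef1_structureModule, by
      rw [RefPow.refPow_zero, sub_self, Nat.cast_zero, zero_smul, sub_self]
      exact zero_mem _⟩
  | 1 => ⟨hF, by
      rw [RefPow.refPow_one, Nat.cast_one, one_smul, sub_self]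
      exact zero_mem _⟩
  | m + 2 => by
    obtain ⟨h1, h2⟩ := refPow_rel hnorm hX hn hF (m + 1)
    refine ⟨RefDiv.isRef1_tensor (RefDiv.lat_of_isRef1 h1) (RefDiv.lat_of_isRef1 hF), ?_⟩
    have h3 := mk_mem_fil.1 (((QuotientAddGroup.mk_sub _ _ _).trans (congrArg₂ (· - ·)
      (QuotientAddGroup.mk_add _ _ _) (QuotientAddGroup.mk_add _ _ _))).trans
        (sub_eq_zero.2 (q_refTensor hnorm hX hn h1 hF)))
    convert add_mem h3 h2 using 1
    show KZero.clSub (Cyc.CohLe δ n) (RefPow.refTensor (RefPow.refPow F (m + 1)) F) - _ - _ = _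
    rw [show ((m + 2 : ℕ) : ℤ) = ((m + 1 : ℕ) : ℤ) + 1 by push_cast; ring, add_smul, one_smul]
    abel

end Alt

variable (k : Type u) [Field k] {X : Scheme.{u}} [X.Over (Spec (CommRingCat.of k))]
  [IsProper (X ↘ Spec (CommRingCat.of k))]

include k in
theorem exists_delta [IsIntegral X] {d : ℕ} (hd : topologicalKrullDim X = (d : ℕ)) :
    ∃ δ : X → ℤ, Cyc.IsSetup X δ ∧ δ (genericPoint X) = (d : ℕ) := by
  let c := X ↘ Spec (CommRingCat.of k)
  have hc := CycDeg.deltaCompat_zero c
  refine ⟨CycDeg.dl X, CycK0.isSetup_of_deltaCompat k hc, ?_⟩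
  have h := (CycK0.delta_height k hc (genericPoint X)).2
  rw [genericPoint_closure, (IsHomeomorph.topologicalKrullDim_eq _
    (Homeomorph.Set.univ X).isHomeomorph), hd] at h
  show (WeilCoh.pdim X (genericPoint X) : ℤ) = _
  exact_mod_cast h.symm

variable [IsLocallyNoetherian X] {δ : X → ℤ} {n : ℤ}

theorem exists_eulerHom (d : ℕ) (hd : topologicalKrullDim X ≤ d) :
    ∃ f : KZero.K0sub (Cyc.CohLe δ n) →+ ℤ,
      ∀ G, Cyc.CohLe δ n G → f (KZero.clSub (Cyc.CohLe δ n) G) = FGA.eulerCharLE k X G d := by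
  refine ⟨QuotientAddGroup.lift _ (FreeAbelianGroup.lift fun G : Subtype (Cyc.CohLe δ n) =>
    FGA.eulerCharLE k X G.1 d) ((AddSubgroup.closure_le _).2 ?_), fun G hG => ?_⟩
  · rintro _ ⟨S, h₁, h₂, h₃, hS, rfl⟩
    rw [SetLike.mem_coe, AddMonoidHom.mem_ker, map_sub, map_sub, FreeAbelianGroup.lift_apply_of,
      FreeAbelianGroup.lift_apply_of, FreeAbelianGroup.lift_apply_of, Intersect.eulerCharLE_eq k d hd,
      Intersect.eulerCharLE_eq k d hd, Intersect.eulerCharLE_eq k d hd,
      CurveRR.euler_add hS h₁.1 h₂.1 h₃.1]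
    ring
  · rw [KZero.clSub, dif_pos hG]
    exact FreeAbelianGroup.lift_apply_of _ _

theorem intNum_eq {f : KZero.K0sub (Cyc.CohLe δ n) →+ ℤ} {d r : ℕ}
    (hf : ∀ G, Cyc.CohLe δ n G → f (KZero.clSub (Cyc.CohLe δ n) G) = FGA.eulerCharLE k X G d)
    (hn : ∀ F : X.Modules, Coh.IsCoh F → Cyc.CohLe δ n F)
    {M : Fin r → X.Modules} (hM : ∀ i, PicF.IsInvertible (M i)) {F : X.Modules} (hF : Coh.IsCoh F) :
    FGA.intNum k X d M F = f (alt hM Finset.univ (KZero.clSub (Cyc.CohLe δ n) F)) := by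
  rw [FGA.intNum, alt, Finset.powerset_univ, map_sum]
  refine Finset.sum_congr rfl fun I _ => ?_
  rw [map_zsmul, (twl_cl hM hn hF _).1, hf _ (hn _ (twl_cl hM hn hF _).2), smul_eq_mul]

end Groth.Agent.RefK0
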