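import Groth.Agent.CycK0.C1K
import Groth.Agent.CycDim.Chains
import Groth.Agent.Intersect.Misc
import Groth.Agent.RefStalk.RankOne
import Groth.Agent.TMul.AmpleComp
import Groth.Agent.TMul.AmpleBasis
import Groth.Prelude.Def_RefHull
import Groth.Prelude.Def_FGA

/-!
# The dimension filtration on `K₀` of coherent modules of an integral scheme and twist differences
-/

set_option autoImplicit false
set_option linter.unusedSectionVars false
set_option linter.style.haveILetI false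
set_option backward.isDefEq.respectTransparency false
set_option backward.isDefEq.respectTransparency.types false

universe u

open CategoryTheory CategoryTheory.Limits AlgebraicGeometry TopologicalSpace Opposite
open Groth.Agent.K0Dev (St)
open Groth.Agent.QC (res resO)
open Groth.Agent.CycK0 (twist)
open TMul (IsGen)

noncomputable section

namespace Groth.Agent.RefK0

variable {X : Scheme.{u}}

lemma isGen_of_restrict {F : X.Modules} {U : X.Opens} {A : (U : Scheme.{u}).Opens}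
    {a : Γ(F.restrict U.ι, A)} (ha : IsGen a) : IsGen (N := F) (U := U.ι ''ᵁ A) a := by
  intro V hV
  obtain ⟨W', rfl⟩ : ∃ W', U.ι ''ᵁ W' = V := ⟨U.ι ⁻¹ᵁ V, by
    rw [Scheme.Hom.image_preimage_eq_opensRange_inf, inf_eq_right.mpr]
    exact hV.trans (U.ι.image_le_opensRange _)⟩
  have hW' : W' ≤ A := fun y hy => by
    obtain ⟨y', hy', e⟩ := hV ⟨y, hy, rfl⟩
    exact U.ι.isOpenEmbedding.injective e ▸ hy'
  have key : (fun c : Γ((U : Scheme.{u}), W') => c • res (F.restrict U.ι) hW' a) =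
      (fun c : Γ(X, U.ι ''ᵁ W') => c • res F (U.ι.image_mono hW') (a : Γ(F, U.ι ''ᵁ A))) ∘
        (U.ι.appIso W').inv := rfl
  have h := ha W' hW'
  rw [key] at h
  exact (Function.Bijective.of_comp_iff _ (ConcreteCategory.bijective_of_isIso (U.ι.appIso W').inv)).1 h

/-- The generic stalk of a generically invertible module is free of rank one. -/
theorem nonempty_genericStalk [IsIntegral X] {F : X.Modules} (h : RefHull.GenInvertible F) :
    Nonempty (X.presheaf.stalk (genericPoint X) ≃ₗ[X.presheaf.stalk (genericPoint X)]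
      F.presheaf.stalk (genericPoint X)) := by
  obtain ⟨U, hUd, hUi⟩ := h
  obtain ⟨η, hη⟩ := hUd.nonempty
  obtain ⟨A, a, hηA, ha⟩ := TMul.exists_isGen hUi (⟨η, hη⟩ : (U : Scheme.{u}))
  have hmem : genericPoint X ∈ U.ι ''ᵁ A :=
    (genericPoint_specializes (U.ι (⟨η, hη⟩ : (U : Scheme.{u})))).mem_open (U.ι ''ᵁ A).2 ⟨_, hηA, rfl⟩
  let W : X.Opens := U.ι ''ᵁ A
  let e : Γ(F, W) := a
  have he : IsGen e := isGen_of_restrict ha
  have hb : Function.Bijective (LinearMap.toSpanSingleton (X.presheaf.stalk (genericPoint X))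
      (F.presheaf.stalk (genericPoint X)) (Groth.Agent.WeakAssLib.mgerm F (hmem : genericPoint X ∈ W) e)) :=
    RefDiv.bijective_germ_of_isGen he hmem
  exact ⟨LinearEquiv.ofBijective _ hb⟩

/-- The stalk of an invertible module is free of rank one. -/
theorem nonempty_stalk {F : X.Modules} (hF : PicF.IsInvertible F) (x : X) :
    Nonempty (X.presheaf.stalk x ≃ₗ[X.presheaf.stalk x] F.presheaf.stalk x) := by
  obtain ⟨A, a, hxA, ha⟩ := TMul.exists_isGen hF x
  have hb : Function.Bijective (LinearMap.toSpanSingleton (X.presheaf.stalk x)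
      (F.presheaf.stalk x) (Groth.Agent.WeakAssLib.mgerm F hxA a)) :=
    RefDiv.bijective_germ_of_isGen ha hxA
  exact ⟨LinearEquiv.ofBijective _ hb⟩

section Dim

variable [IsIntegral X] {δ : X → ℤ}

lemma delta_mono (hδ : Cyc.IsDimFun X δ) {a b : X} (h : a ⤳ b) : δ b ≤ δ a := by
  by_cases hab : a = b
  · rw [hab]
  · exact (CycDim.delta_lt hδ (CycDim.lt_of_spec h hab)).le

lemma delta_le_top (hδ : Cyc.IsDimFun X δ) (x : X) : δ x ≤ δ (genericPoint X) :=
  delta_mono hδ (genericPoint_specializes x)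

lemma eq_genericPoint (hδ : Cyc.IsDimFun X δ) {x : X} (h : δ x = δ (genericPoint X)) : x = genericPoint X :=
  (CycDim.eq_of_delta_le hδ (genericPoint_specializes x) h.ge).symm

lemma cohLe_top (hδ : Cyc.IsDimFun X δ) {n : ℤ} (hn : δ (genericPoint X) = n) {F : X.Modules} (hF : Coh.IsCoh F) :
    Cyc.CohLe δ n F := ⟨hF, fun x _ => hn ▸ delta_le_top hδ x⟩

theorem delta_nonneg (hδ : Cyc.IsDimFun X δ) {n : ℕ} (hdim : topologicalKrullDim X ≤ (n : ℕ))
    (hn : δ (genericPoint X) = (n : ℕ)) (x : X) : 0 ≤ δ x := by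
  let η := genericPoint X
  have h1 : Order.krullDim {z : X // η ⤳ z} ≤ (n : ℕ) := by
    rw [← CycDim.topologicalKrullDim_closure]
    exact (topologicalKrullDim_subspace_le X _).trans hdim
  have hle : x ≤ η := Scheme.le_iff_specializes.2 (genericPoint_specializes x)
  obtain ⟨h2, h3⟩ := CycDim.krullDim_eq hδ (fun z => x ≤ z ∧ z ≤ η) η x ⟨hle, le_rfl⟩ ⟨le_rfl, hle⟩ hle
    (fun z hz => ⟨hz.2, delta_mono hδ (Scheme.le_iff_specializes.1 hz.1)⟩) fun z a b => ⟨a, b⟩
  have h4 : Order.krullDim {z : X // x ≤ z ∧ z ≤ η} ≤ Order.krullDim {z : X // η ⤳ z} :=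
    Order.krullDim_le_of_strictMono (fun z => ⟨z.1, Scheme.le_iff_specializes.1 z.2.2⟩) fun a b h => h
  rw [h2] at h4
  have h5 : (δ η - δ x).toNat ≤ n := by exact_mod_cast h4.trans h1
  have h6 : δ η = n := hn
  omega

end Dim

/-! ### The filtration -/

variable [IsLocallyNoetherian X] {δ : X → ℤ} {n : ℤ}

/-- The subgroup generated by classes of coherent modules of dimension at most `m`. -/
def Fil (δ : X → ℤ) (n m : ℤ) : AddSubgroup (KZero.K0sub (Cyc.CohLe δ n)) :=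
  AddSubgroup.closure {c | ∃ F : X.Modules, Cyc.CohLe δ m F ∧ c = KZero.clSub (Cyc.CohLe δ n) F}

lemma mk_mem_fil {m : ℤ} {c : KZero.K0sub (Cyc.CohLe δ n)} :
    (QuotientAddGroup.mk c : Cyc.K0CohQuot δ n m) = 0 ↔ c ∈ Fil δ n m := QuotientAddGroup.eq_zero_iff _

lemma cl_iso {F G : X.Modules} (e : F ≅ G) :
    KZero.clSub (Cyc.CohLe δ n) F = KZero.clSub (Cyc.CohLe δ n) G :=
  K0Dev.cl_iso (P := Cyc.CohLe δ n) (fun _ _ e h => CycK0.cohLe_of_iso e h) (fun _ h => CycK0.cohLe_of_isZero h) e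

theorem fil_eq_bot {m : ℤ} (hm : ∀ x, m < δ x) : Fil δ n m = ⊥ := by
  refine (AddSubgroup.closure_eq_bot_iff).2 ?_
  rintro _ ⟨F, hF, rfl⟩
  exact K0Dev.cl_zero ((K0Dev.isZero_iff_stalks _).2 fun x => ((CycK0.cohLe_iff δ m).1 hF).2 x (hm x))

/-- The class of the structure sheaf and that of a generically invertible module agree modulo lower dimension. -/
theorem sub_mem_fil [IsIntegral X] (hX : Cyc.IsSetup X δ) (hn : δ (genericPoint X) = n)
    {F G : X.Modules} (hF : Coh.IsCoh F) (hG : Coh.IsCoh G)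
    (e : Nonempty (F.presheaf.stalk (genericPoint X) ≃ₗ[X.presheaf.stalk (genericPoint X)]
      G.presheaf.stalk (genericPoint X))) :
    Cyc.toK0CohQuot δ n (n - 1) F = Cyc.toK0CohQuot δ n (n - 1) G := by
  obtain ⟨ψ, hψ, hinj, -⟩ := CycK0.exists_psi (k := n) hX
  refine hinj ?_
  rw [hψ F (cohLe_top hX.2.2 hn hF), hψ G (cohLe_top hX.2.2 hn hG)]
  funext x
  unfold Cyc.sheafFun
  split
  · next h =>
    rw [eq_genericPoint hX.2.2 (h.trans hn.symm), e.some.length_eq]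
  · rfl

/-! ### Twisting -/

section Twist

variable {L : X.Modules} (hL : PicF.IsInvertible L)

lemma cl_twist_add (hL : PicF.IsInvertible L) {S : ShortComplex X.Modules} (hS : S.ShortExact)
    (h₁ : Cyc.CohLe δ n S.X₁) (h₂ : Cyc.CohLe δ n S.X₂) (h₃ : Cyc.CohLe δ n S.X₃) :
    KZero.clSub (Cyc.CohLe δ n) ((twist L).obj S.X₂) =
      KZero.clSub (Cyc.CohLe δ n) ((twist L).obj S.X₁) + KZero.clSub (Cyc.CohLe δ n) ((twist L).obj S.X₃) := by
  have h := CycK0.twist_shortExact hL hS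
  have e₁ : (S.map (twist L)).X₁ = (twist L).obj S.X₁ := ShortComplex.map_X₁ _ _
  have e₂ : (S.map (twist L)).X₂ = (twist L).obj S.X₂ := ShortComplex.map_X₂ _ _
  have e₃ : (S.map (twist L)).X₃ = (twist L).obj S.X₃ := ShortComplex.map_X₃ _ _
  have a₁ : Cyc.CohLe δ n (S.map (twist L)).X₁ := e₁.symm ▸ CycK0.cohLe_twist hL h₁
  have a₂ : Cyc.CohLe δ n (S.map (twist L)).X₂ := e₂.symm ▸ CycK0.cohLe_twist hL h₂
  have a₃ : Cyc.CohLe δ n (S.map (twist L)).X₃ := e₃.symm ▸ CycK0.cohLe_twist hL h₃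
  have hc := K0Dev.cl_add (Cyc.CohLe δ n) h a₁ a₂ a₃
  rw [e₁, e₂, e₃] at hc
  exact hc

/-- Twisting on the free group. -/
def twF (δ : X → ℤ) (n : ℤ) (L : X.Modules) :
    FreeAbelianGroup (Subtype (Cyc.CohLe δ n)) →+ KZero.K0sub (Cyc.CohLe δ n) :=
  FreeAbelianGroup.lift fun G : Subtype (Cyc.CohLe δ n) => KZero.clSub (Cyc.CohLe δ n) ((twist L).obj G.1)

lemma twF_of (G : Subtype (Cyc.CohLe δ n)) :
    twF δ n L (FreeAbelianGroup.of G) = KZero.clSub (Cyc.CohLe δ n) ((twist L).obj G.1) :=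
  FreeAbelianGroup.lift_apply_of _ _

lemma relSub_le (hL : PicF.IsInvertible L) : KZero.relSub (Cyc.CohLe δ n) ≤ (twF δ n L).ker := by
  refine (AddSubgroup.closure_le _).2 ?_
  rintro _ ⟨S, h₁, h₂, h₃, hS, rfl⟩
  rw [SetLike.mem_coe, AddMonoidHom.mem_ker, map_sub, map_sub, twF_of, twF_of, twF_of, cl_twist_add hL hS h₁ h₂ h₃]
  abel

/-- Twisting on `K₀`. -/
def tw : KZero.K0sub (Cyc.CohLe δ n) →+ KZero.K0sub (Cyc.CohLe δ n) :=
  QuotientAddGroup.lift _ (twF δ n L) (relSub_le hL)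

lemma tw_cl {F : X.Modules} (hF : Cyc.CohLe δ n F) :
    tw hL (KZero.clSub (Cyc.CohLe δ n) F) = KZero.clSub (Cyc.CohLe δ n) (CohB1.tensorMod F L) := by
  rw [KZero.clSub, dif_pos hF]
  exact FreeAbelianGroup.lift_apply_of _ _

/-- The twist difference. -/
def dd : KZero.K0sub (Cyc.CohLe δ n) →+ KZero.K0sub (Cyc.CohLe δ n) := tw hL - AddMonoidHom.id _

lemma dd_apply (c : KZero.K0sub (Cyc.CohLe δ n)) : dd hL c = tw hL c - c := rfl

/-- The twist difference lowers the filtration. -/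
theorem dd_mem (hX : Cyc.IsSetup X δ) {m : ℤ} (hm : m ≤ n) {c : KZero.K0sub (Cyc.CohLe δ n)}
    (hc : c ∈ Fil δ n m) : dd hL c ∈ Fil δ n (m - 1) := by
  revert c
  show Fil δ n m ≤ (Fil δ n (m - 1)).comap (dd hL)
  refine (AddSubgroup.closure_le _).2 ?_
  rintro _ ⟨F, hF, rfl⟩
  have up : ∀ {G : X.Modules}, Cyc.CohLe δ m G → Cyc.CohLe δ n G := fun hG => ⟨hG.1, fun x hx => (hG.2 x hx).trans hm⟩
  let g : KZero.K0sub (Cyc.CohLe δ m) →+ KZero.K0sub (Cyc.CohLe δ n) := QuotientAddGroup.lift _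
    (FreeAbelianGroup.lift fun G : Subtype (Cyc.CohLe δ m) => KZero.clSub (Cyc.CohLe δ n) G.1)
    ((AddSubgroup.closure_le _).2 (by
      rintro _ ⟨S, h₁, h₂, h₃, hS, rfl⟩
      rw [SetLike.mem_coe, AddMonoidHom.mem_ker, map_sub, map_sub, FreeAbelianGroup.lift_apply_of,
        FreeAbelianGroup.lift_apply_of, FreeAbelianGroup.lift_apply_of,
        K0Dev.cl_add (Cyc.CohLe δ n) hS (up h₁) (up h₂) (up h₃)]
      abel))
  have hg : ∀ G, Cyc.CohLe δ m G → g (KZero.clSub (Cyc.CohLe δ m) G) = KZero.clSub (Cyc.CohLe δ n) G :=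
    fun G hG => by
      rw [KZero.clSub, dif_pos hG]
      exact FreeAbelianGroup.lift_apply_of _ _
  have hT : Cyc.CohLe δ m (CohB1.tensorMod F L) := CycK0.cohLe_twist hL hF
  obtain ⟨ψ, hψ, hinj, -⟩ := CycK0.exists_psi (k := m) hX
  have heq : Cyc.toK0CohQuot δ m (m - 1) ((twist L).obj F) = Cyc.toK0CohQuot δ m (m - 1) F :=
    hinj (by rw [hψ ((twist L).obj F) hT, hψ _ hF, CycK0.sheafFun_twist hL])
  have hmem := mk_mem_fil.1 (show (QuotientAddGroup.mk (KZero.clSub (Cyc.CohLe δ m) (CohB1.tensorMod F L) -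
      KZero.clSub (Cyc.CohLe δ m) F) : Cyc.K0CohQuot δ m (m - 1)) = 0 from
    (QuotientAddGroup.mk_sub _ _ _).trans (sub_eq_zero.2 heq))
  have hle : (Fil δ m (m - 1)).map g ≤ Fil δ n (m - 1) := by
    rw [Fil, AddMonoidHom.map_closure]
    refine AddSubgroup.closure_mono ?_
    rintro _ ⟨_, ⟨G, hG, rfl⟩, rfl⟩
    exact ⟨G, hG, hg G ⟨hG.1, fun x hx => (hG.2 x hx).trans (by omega)⟩⟩
  have h := hle ⟨_, hmem, rfl⟩
  rw [map_sub, hg _ hT, hg _ hF, ← tw_cl hL (up hF)] at h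
  exact h

end Twist

/-! ### Alternating sums over the sublists -/

section Alt

variable {ι : Type*} [LinearOrder ι] {M : ι → X.Modules} (hM : ∀ i, PicF.IsInvertible (M i))

/-- Successive twists. -/
def twl : List ι → (KZero.K0sub (Cyc.CohLe δ n) →+ KZero.K0sub (Cyc.CohLe δ n))
  | [] => AddMonoidHom.id _
  | a :: l => (tw (hM a)).comp (twl l)

/-- The alternating sum of the twists over the subsets of `s`. -/
def alt (s : Finset ι) (c : KZero.K0sub (Cyc.CohLe δ n)) : KZero.K0sub (Cyc.CohLe δ n) :=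
  ∑ I ∈ s.powerset, ((-1 : ℤ) ^ I.card) • twl hM (I.sort (· ≤ ·)) c

lemma alt_insert {s : Finset ι} {a : ι} (h : ∀ x ∈ s, a < x) (c : KZero.K0sub (Cyc.CohLe δ n)) :
    alt hM (insert a s) c = - dd (hM a) (alt hM s c) := by
  have ha : a ∉ s := fun h' => lt_irrefl a (h a h')
  rw [alt, Finset.sum_powerset_insert ha, dd_apply, alt, map_sum, neg_sub, sub_eq_add_neg,
    ← Finset.sum_neg_distrib]
  refine congrArg₂ (· + ·) rfl (Finset.sum_congr rfl fun I hI => ?_)
  have hI' := Finset.mem_powerset.1 hI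
  rw [Finset.card_insert_of_notMem fun h' => ha (hI' h'),
    Finset.sort_insert (r := (· ≤ ·)) (fun b hb => (h b (hI' hb)).le) (fun h' => ha (hI' h')), pow_succ,
    mul_neg_one, neg_smul, map_zsmul]
  rfl

/-- The alternating sum lowers the filtration by the cardinality. -/
theorem alt_mem (hX : Cyc.IsSetup X δ) (s : Finset ι) {m : ℤ} (hm : m ≤ n) {c : KZero.K0sub (Cyc.CohLe δ n)}
    (hc : c ∈ Fil δ n m) : alt hM s c ∈ Fil δ n (m - s.card) := by
  induction s using Finset.induction_on_min with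
  | empty =>
    rw [alt, Finset.powerset_empty, Finset.sum_singleton, Finset.card_empty, pow_zero, one_smul,
      Finset.sort_empty, Nat.cast_zero, sub_zero]
    exact hc
  | @insert a s h ih =>
    rw [alt_insert hM h, Finset.card_insert_of_notMem fun h' => lt_irrefl a (h a h'),
      show m - ((s.card + 1 : ℕ) : ℤ) = m - s.card - 1 by push_cast; ring]
    exact neg_mem (dd_mem _ hX (by omega) ih)

lemma twl_cl (hn : ∀ F : X.Modules, Coh.IsCoh F → Cyc.CohLe δ n F) {F : X.Modules} (hF : Coh.IsCoh F) :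
    ∀ l : List ι, twl hM l (KZero.clSub (Cyc.CohLe δ n) F) =
        KZero.clSub (Cyc.CohLe δ n) (CohB1.tensorMod (FGA.tensorList (l.map M)) F) ∧
      Coh.IsCoh (CohB1.tensorMod (FGA.tensorList (l.map M)) F)
  | [] => ⟨(cl_iso (TMul.leftUnitIso F)).symm, K0Coh.isCoh_of_iso (TMul.leftUnitIso F).symm hF⟩
  | a :: l => by
    obtain ⟨h1, h2⟩ := twl_cl hn hF l
    have e : CohB1.tensorMod (CohB1.tensorMod (FGA.tensorList (l.map M)) F) (M a) ≅
        CohB1.tensorMod (CohB1.tensorMod (M a) (FGA.tensorList (l.map M))) F :=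
      TMul.commIso _ _ ≪≫ (TMul.assocIso _ _ _).symm
    refine ⟨?_, K0Coh.isCoh_of_iso e (CycK0.cohLe_twist (hM a) (hn _ h2)).1⟩
    show tw (hM a) (twl hM l _) = _
    rw [h1, tw_cl (hM a) (hn _ h2)]
    exact cl_iso e

theorem sum_eq_alt [Fintype ι] (hn : ∀ F : X.Modules, Coh.IsCoh F → Cyc.CohLe δ n F) {F G : X.Modules}
    (hF : Coh.IsCoh F) (hG : Coh.IsCoh G) :
    (∑ I : Finset ι, ((-1 : ℤ) ^ I.card) •
      (KZero.clSub (Cyc.CohLe δ n) (CohB1.tensorMod (FGA.tensorList ((I.sort (· ≤ ·)).map M)) F) -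
        KZero.clSub (Cyc.CohLe δ n) (CohB1.tensorMod (FGA.tensorList ((I.sort (· ≤ ·)).map M)) G))) =
      alt hM Finset.univ (KZero.clSub (Cyc.CohLe δ n) F - KZero.clSub (Cyc.CohLe δ n) G) := by
  rw [alt, Finset.powerset_univ]
  refine Finset.sum_congr rfl fun I _ => ?_
  rw [map_sub, (twl_cl hM hn hF _).1, (twl_cl hM hn hG _).1]

end Alt

end Groth.Agent.RefK0
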